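import Mathlib
import Cfsg.Agent.H887.DS.SixFive
import Cfsg.Agent.FastGrp
import Cfsg.Agent.Prune
set_option linter.all false
prune_inst 0x7fffedfbfbffffffffff7e7fffdfdfffffbfbfffe6dff9fbffe8ebffbb9f7b9acde56fad6febb0ff1fd7ea3d10f87b53fbfffeffe86ffc7ffffdfff41ffbffdfffff350871dc8cbe0fbe6fff93f07f8e7f3fffffffffffffffffffffffffffbeffbfffffffff
open scoped Cfsg.Agent.FastGrp

-- part: H887/DS/CertData
section
/-!
# Integral certificates (helper887)

Thirteen rows and columns of matrix coefficients of `SL(3)`, `SL(4)` with determinant a product of powers of 2 and 3.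
-/

set_option autoImplicit false

namespace Cfsg.Agent.H887.DS

/-- points -/
def c22S : Fin 13 → Fin 3 → ℤ :=
  ![![0, 0, -1],
  ![0, 0, 0],
  ![-1, 0, -1],
  ![0, -1, 0],
  ![0, -1, -1],
  ![1, -1, -1],
  ![-1, -1, 0],
  ![-1, 1, -1],
  ![-1, 0, 0],
  ![1, -1, 0],
  ![0, -1, 1],
  ![-1, -1, -1],
  ![0, 0, 1]]

/-- points -/
def c22T : Fin 13 → Fin 3 → ℤ :=
  ![![0, 1, 0],
  ![1, 1, 1],
  ![0, 0, 0],
  ![0, 1, 1],
  ![1, 0, -1],
  ![1, 1, 0],
  ![0, 0, 1],
  ![1, 1, -1],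
  ![-1, 0, 1],
  ![-1, -1, 1],
  ![1, 0, 1],
  ![1, 0, 0],
  ![-1, 1, 0]]

/-- the matrix -/
def c22M : Fin 13 → Fin 13 → ℤ :=
  ![![1, 0, 1, 0, 4, 1, 0, 4, 0, 0, 0, 1, 1],
  ![1, 1, 1, 1, 1, 1, 1, 1, 1, 1, 1, 1, 1],
  ![0, 0, 1, 1, 0, 0, 0, 0, 4, 0, 0, 0, 0],
  ![0, 0, 1, 0, 0, 0, 1, 0, 0, 4, 4, 1, 0],
  ![0, 0, 1, 0, 1, 0, 0, 0, 1, 0, 1, 1, 0],
  ![0, 0, 1, 0, 16, 1, 0, 4, 0, 0, 0, 4, 1],
  ![0, 1, 1, 0, 0, 0, 1, 1, 0, 9, 0, 0, 0],
  ![4, 0, 1, 0, 0, 1, 0, 4, 0, 0, 0, 0, 9],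
  ![1, 0, 1, 1, 0, 0, 1, 0, 4, 4, 0, 0, 4],
  ![0, 1, 1, 0, 0, 0, 1, 1, 0, 1, 16, 4, 0],
  ![0, 0, 1, 0, 1, 0, 4, 0, 1, 16, 9, 1, 0],
  ![0, 0, 1, 0, 0, 1, 0, 4, 16, 0, 0, 0, 1],
  ![1, 4, 1, 4, 0, 1, 4, 0, 4, 4, 4, 1, 1]]

/-- the inverse times 64 -/
def c22N : Fin 13 → Fin 13 → ℤ :=
  ![![88, 48, 0, -528, 312, -52, 0, -24, 48, 48, 120, -36, -24],
  ![-86, -28, 32, 148, -62, 29, 24, 46, -92, -20, -30, 17, 22],
  ![-88, -48, 64, 336, -120, 36, 0, 56, -112, -48, -56, 20, 24],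
  ![80, 32, 0, -160, 16, -24, 0, -48, 96, 32, 16, -24, -16],
  ![-38, -12, 32, 68, -38, 17, 0, 22, -44, -12, -6, 5, 6],
  ![-152, 80, 64, 464, -344, 60, 0, 48, -112, -48, -88, 36, -8],
  ![40, -48, -64, 16, 72, -12, -32, -8, 16, -16, 8, 4, 24],
  ![62, -20, -32, -68, 38, -17, 0, -22, 44, 12, 6, -5, 2],
  ![2, 4, 0, -44, 26, -3, 0, -2, 4, 4, 10, 1, -2],
  ![8, 16, 0, -48, 8, -4, 8, -8, 16, 8, 8, -4, -8],
  ![-36, -8, 32, 88, -60, 14, 0, 20, -40, -8, -12, 6, 4],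
  ![160, 64, -128, -448, 256, -64, 0, -96, 192, 64, 64, -32, -32],
  ![-40, -16, 0, 176, -104, 20, 0, 16, -16, -16, -40, 12, 8]]

/-- points -/
def c13S : Fin 13 → Fin 3 → ℤ :=
  ![![-1, 1, 0],
  ![0, 0, 0],
  ![-1, 0, 0],
  ![-1, 1, -1],
  ![1, 0, -1],
  ![0, 1, 1],
  ![0, 1, 0],
  ![0, -1, 1],
  ![0, 1, -1],
  ![1, 1, -1],
  ![1, -1, -1],
  ![1, 1, 1],
  ![-1, 1, 1]]

/-- points -/
def c13T : Fin 13 → Fin 3 → ℤ :=
  ![![0, 0, 0],
  ![0, -1, -1],
  ![-1, 0, 0],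
  ![1, 1, 1],
  ![0, 0, 1],
  ![-1, -1, 0],
  ![-1, 0, -1],
  ![1, 0, 1],
  ![1, -1, -1],
  ![0, 1, 0],
  ![0, -1, 0],
  ![0, 0, -1],
  ![1, 1, 0]]

/-- the matrix -/
def c13M : Fin 13 → Fin 13 → ℤ :=
  ![![1, 0, 2, 1, 1, 0, 0, 0, -1, 16, 0, 1, 8],
  ![1, 1, 1, 1, 1, 1, 1, 1, 1, 1, 1, 1, 1],
  ![1, 1, 2, 0, 1, 2, 2, 0, 0, 1, 1, 1, 0],
  ![1, 0, 2, 0, 0, 1, 16, 0, -8, 2, 0, 8, 1],
  ![1, 1, 0, 0, 0, 0, 0, -2, 16, 8, 0, 8, 16],
  ![1, 0, 1, 16, 8, 0, -1, 1, 0, 16, 0, 0, 16],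
  ![1, 0, 1, 2, 1, 0, 0, 0, 0, 16, 0, 1, 16],
  ![1, 2, 1, 0, 8, 16, 1, 27, 0, 0, 16, 0, 0],
  ![1, 0, 1, 0, 0, 0, 1, -1, 0, 16, 0, 8, 16],
  ![1, 0, 0, 0, 0, 1, 0, -16, 8, 54, 0, 8, 81],
  ![1, 16, 0, 0, 0, 1, 0, 0, 24, 0, 2, 8, 1],
  ![1, 0, 0, 24, 8, -1, 0, 16, 0, 2, 0, 0, 3],
  ![1, 0, 2, 8, 8, -1, -16, 0, 0, 54, 0, 0, 27]]

/-- the inverse times 768 -/
def c13N : Fin 13 → Fin 13 → ℤ :=
  ![![-1792, 13056, 768, 2736, 0, -6816, -11008, -768, -5280, 3184, -768, 3760, 3696],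
  ![-72, -1064, 8, -210, -72, 540, 1128, 52, 448, -278, 112, -314, -278],
  ![1792, -13056, -768, -2992, 0, 7200, 12032, 768, 5664, -3440, 768, -4016, -3952],
  ![-56, 4136, 248, 854, -56, -2260, -4328, -244, -1720, 1162, -240, 1342, 1162],
  ![112, -7984, -496, -1643, 112, 4490, 8240, 472, 3330, -2247, 464, -2603, -2247],
  ![-1664, 12160, 1664, 2896, 0, -7264, -12160, -768, -5600, 3472, -768, 4112, 3920],
  ![28, 172, -60, 99, 28, -90, -140, -6, -168, 49, -8, 47, 49],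
  ![28, -2132, -60, -421, 28, 1046, 2164, 122, 840, -567, 120, -601, -567],
  ![56, 216, 8, 58, 56, -140, -280, -12, -168, 70, -16, 82, 70],
  ![-128, 2176, 128, 504, 0, -1232, -2176, -128, -976, 600, -128, 696, 664],
  ![1568, -4448, -1312, -1328, -96, 3168, 4192, 368, 2448, -1344, 320, -1744, -1792],
  ![0, -288, 0, -65, 0, 158, 160, 16, 238, -77, 16, -81, -77],
  ![128, -2176, -128, -488, 0, 1200, 2176, 128, 944, -584, 128, -680, -648]]

/-- points -/
def d110S : Fin 13 → Fin 5 → ℤ :=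
  ![![1, 1, 0, 0, 0],
  ![0, 0, 0, 1, 1],
  ![0, 0, 0, 1, 0],
  ![1, 1, 0, 1, 1],
  ![1, 0, 0, 0, 1],
  ![0, 0, 0, 0, 0],
  ![1, 1, 1, 1, 1],
  ![1, 0, 0, 1, 1],
  ![1, 1, 0, 0, 1],
  ![0, 1, 0, 0, 1],
  ![0, 0, 1, 0, 0],
  ![0, 1, 0, 1, 1],
  ![0, 1, 0, 1, 0]]

/-- points -/
def d110T : Fin 13 → Fin 5 → ℤ :=
  ![![0, 0, 1, 0, 0],
  ![1, 1, 0, 1, 0],
  ![1, 1, 1, 1, 1],
  ![0, 0, 0, 0, 1],
  ![0, 0, 0, 0, 0],
  ![1, 0, 1, 0, 0],
  ![0, 0, 1, 0, 1],
  ![0, 1, 0, 0, 0],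
  ![0, 1, 1, 1, 1],
  ![0, 1, 0, 1, 0],
  ![1, 1, 1, 0, 0],
  ![0, 0, 1, 1, 0],
  ![1, 1, 0, 0, 0]]

/-- the matrix -/
def d110M : Fin 13 → Fin 13 → ℤ :=
  ![![1, 3, 3, 1, 1, 2, 1, 4, 4, 4, 6, 1, 6],
  ![1, 2, 3, 2, 1, 1, 2, 1, 3, 2, 1, 2, 1],
  ![1, 2, 2, 1, 1, 1, 1, 1, 2, 2, 1, 2, 1],
  ![0, 6, 9, 2, 1, 0, 1, 2, 4, 4, 0, 0, 3],
  ![0, 2, 4, 2, 1, 0, 1, 1, 1, 1, 0, 0, 2],
  ![1, 1, 1, 1, 1, 1, 1, 1, 1, 1, 1, 1, 1],
  ![2, 6, 12, 2, 1, 3, 4, 2, 9, 4, 4, 4, 3],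
  ![0, 4, 6, 2, 1, 0, 1, 0, 1, 1, -2, 1, 0],
  ![0, 3, 6, 2, 1, 0, 1, 4, 4, 4, 3, -1, 6],
  ![1, 2, 4, 2, 1, 1, 2, 4, 6, 4, 4, 0, 4],
  ![4, 1, 2, 1, 1, 4, 4, 1, 4, 1, 4, 4, 1],
  ![1, 4, 6, 2, 1, 1, 2, 4, 8, 6, 4, 1, 4],
  ![1, 4, 4, 1, 1, 1, 1, 4, 6, 6, 4, 2, 4]]

/-- the inverse times 1 -/
def d110N : Fin 13 → Fin 13 → ℤ :=
  ![![0, -5, -1, -4, 3, -1, -1, 4, 1, -4, 2, 6, 0],
  ![0, 3, 15, 12, 6, -15, 0, -12, -9, 16, -1, -16, 1],
  ![0, -3, -12, -9, -3, 11, 0, 9, 6, -12, 1, 12, 0],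
  ![1, -5, -14, -14, -5, 12, -1, 15, 9, -17, 2, 19, -2],
  ![-1, 3, 14, 13, 8, -11, 1, -15, -10, 16, -2, -17, 2],
  ![1, 0, -13, -11, -13, 16, 0, 13, 11, -15, 0, 15, -4],
  ![-1, 7, 10, 14, 5, -10, 1, -15, -9, 16, -2, -19, 3],
  ![0, 0, -2, -2, -3, 2, 0, 3, 2, -1, 0, 1, 0],
  ![0, 2, 15, 9, 3, -13, 0, -9, -6, 13, -1, -12, -1],
  ![0, -2, -19, -12, -6, 18, 0, 12, 9, -18, 1, 17, 0],
  ![0, -3, -9, -5, 3, 6, 0, 4, 1, -7, 1, 7, 2],
  ![0, 0, 2, 0, 0, -2, 0, 0, 0, 1, 0, -1, 0],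
  ![0, 3, 14, 9, 2, -12, 0, -9, -5, 12, -1, -12, -1]]

/-- points -/
def d101S : Fin 13 → Fin 5 → ℤ :=
  ![![0, 0, 0, 1, 0],
  ![0, 1, 0, 0, 0],
  ![0, 0, 0, 0, 1],
  ![1, 1, 1, 1, 0],
  ![1, 0, 0, 0, 1],
  ![1, 0, 1, 0, 1],
  ![0, 0, 1, 0, 0],
  ![0, 0, 0, 1, 1],
  ![0, 0, 1, 1, 0],
  ![0, 0, 1, 0, 1],
  ![1, 0, 1, 0, 0],
  ![1, 0, 0, 1, 1],
  ![0, 1, 0, 1, 0]]

/-- points -/
def d101T : Fin 13 → Fin 5 → ℤ :=
  ![![1, 1, 0, 0, 0],
  ![0, 0, 1, 0, 0],
  ![1, 0, 1, 0, 1],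
  ![0, 0, 1, 0, 1],
  ![0, 1, 0, 0, 1],
  ![0, 0, 0, 0, 1],
  ![1, 0, 1, 1, 0],
  ![0, 1, 1, 1, 1],
  ![0, 0, 0, 1, 1],
  ![0, 1, 1, 0, 0],
  ![1, 0, 1, 1, 1],
  ![0, 1, 1, 1, 0],
  ![0, 1, 0, 0, 0]]

/-- the matrix -/
def d101M : Fin 13 → Fin 13 → ℤ :=
  ![![1, 1, 1, 1, 1, 1, 2, 2, 2, 1, 2, 2, 1],
  ![2, 1, 1, 1, 2, 1, 1, 2, 1, 2, 1, 2, 2],
  ![1, 1, 2, 2, 2, 2, 1, 2, 2, 1, 2, 1, 1],
  ![3, 2, 3, 2, 2, 1, 6, 6, 2, 3, 6, 6, 2],
  ![2, 1, 4, 2, 2, 2, 2, 2, 2, 1, 4, 1, 1],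
  ![2, 4, 9, 6, 1, 2, 3, 4, 2, 4, 6, 4, 1],
  ![1, 4, 4, 4, 0, 1, 2, 2, 1, 4, 2, 4, 1],
  ![1, 1, 2, 2, 2, 2, 2, 3, 3, 1, 3, 2, 1],
  ![1, 4, 4, 4, 0, 1, 4, 4, 2, 4, 4, 6, 1],
  ![1, 4, 6, 6, 1, 2, 2, 4, 2, 4, 4, 4, 1],
  ![2, 4, 6, 4, 0, 1, 3, 2, 1, 4, 3, 4, 1],
  ![2, 0, 2, 1, 3, 2, 4, 3, 3, 0, 6, 1, 1],
  ![2, 1, 1, 1, 2, 1, 2, 4, 2, 2, 2, 4, 2]]

/-- the inverse times 1 -/
def d101N : Fin 13 → Fin 13 → ℤ :=
  ![![0, -1, -2, 0, 2, -2, 0, 0, -1, 2, 1, 0, 1],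
  ![3, -5, 3, 1, -2, 2, 7, -3, -5, -2, -2, 1, 3],
  ![0, 0, 1, 0, -1, 1, 0, 0, 0, -1, 0, 0, 0],
  ![0, 2, 1, -2, 0, -2, -7, -3, 4, 3, 3, 1, 0],
  ![-1, -1, 3, -1, -3, 1, 0, -2, 0, -1, 1, 2, 2],
  ![-1, 1, -1, 1, 3, -1, 0, 2, 1, 0, -1, -2, -2],
  ![0, 1, 1, 0, -1, 0, -2, 0, 1, 0, 1, 0, -1],
  ![1, -2, -1, 2, 0, 1, 5, 2, -4, -1, -2, -1, 0],
  ![0, 0, -2, 0, 0, 0, 1, 2, -1, 0, 0, 0, 0],
  ![-3, 2, -6, 2, 2, 0, 4, 8, -2, -1, -2, -2, -3],
  ![0, 0, -1, 0, 1, 0, 1, 0, 0, 0, -1, 0, 0],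
  ![-1, 1, 2, -2, 0, -1, -5, -3, 4, 1, 2, 1, 1],
  ![3, 2, 3, -1, -1, 1, -4, -4, 3, 0, 0, 0, -1]]

/-- points -/
def d020S : Fin 13 → Fin 5 → ℤ :=
  ![![0, 0, 0, 0, 0],
  ![1, 1, 1, 0, 1],
  ![1, 1, 0, 0, 1],
  ![1, 1, 0, 1, 1],
  ![1, 0, 0, 1, 1],
  ![0, 1, 1, 1, 1],
  ![0, 1, 1, 0, 1],
  ![1, 1, 1, 1, 0],
  ![0, 1, 0, 1, 1],
  ![1, 1, 1, 1, 1],
  ![0, 0, 1, 0, 1],
  ![0, 0, 1, 0, 0],
  ![1, 1, 0, 0, 0]]

/-- points -/
def d020T : Fin 13 → Fin 5 → ℤ :=
  ![![0, 1, 1, 1, 0],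
  ![1, 1, 1, 1, 0],
  ![1, 0, 1, 1, 1],
  ![0, 0, 1, 1, 1],
  ![0, 0, 0, 0, 0],
  ![1, 0, 0, 1, 0],
  ![1, 0, 1, 1, 0],
  ![1, 1, 0, 0, 0],
  ![0, 0, 1, 0, 1],
  ![1, 1, 1, 0, 0],
  ![1, 1, 1, 1, 1],
  ![1, 0, 0, 1, 1],
  ![1, 1, 0, 1, 1]]

/-- the matrix -/
def d020M : Fin 13 → Fin 13 → ℤ :=
  ![![1, 1, 1, 1, 1, 1, 1, 1, 1, 1, 1, 1, 1],
  ![1, 0, 0, 1, 1, 0, 1, 4, 4, 4, 4, 1, 9],
  ![0, 1, 0, 0, 1, 0, 4, 4, 1, 1, 4, 4, 16],
  ![0, 0, 4, 1, 1, 4, 0, 1, 1, 0, 9, 16, 25],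
  ![0, 1, 16, 4, 1, 9, 4, 0, 1, 1, 9, 25, 16],
  ![16, 9, 4, 16, 1, 1, 4, 4, 9, 9, 9, 1, 4],
  ![4, 1, 0, 4, 1, 0, 0, 4, 9, 9, 4, 0, 4],
  ![16, 16, 9, 16, 1, 4, 16, 1, 4, 4, 4, 1, 0],
  ![4, 1, 1, 4, 1, 1, 0, 4, 4, 4, 9, 4, 16],
  ![4, 4, 9, 9, 1, 4, 4, 1, 4, 1, 9, 9, 9],
  ![4, 4, 4, 9, 1, 1, 4, 1, 9, 4, 4, 1, 1],
  ![4, 4, 1, 4, 1, 1, 4, 1, 4, 4, 1, 0, 0],
  ![4, 1, 0, 1, 1, 0, 0, 4, 1, 4, 1, 0, 1]]

/-- the inverse times 8 -/
def d020N : Fin 13 → Fin 13 → ℤ :=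
  ![![-8, 452, -119, 48, 3, 109, -151, -20, -186, -10, -66, 52, -104],
  ![2, 46, -11, 11, -6, 10, -3, 0, -33, 12, -16, -1, -11],
  ![82, 46, 9, 3, 0, 32, 25, 4, -53, 0, -36, -53, -59],
  ![14, -738, 193, -82, 0, -176, 237, 32, 314, 4, 116, -84, 170],
  ![132, 108, 6, 6, 2, 62, 18, 0, -94, -4, -60, -66, -102],
  ![-92, -540, 110, -56, 0, -160, 126, 20, 276, 0, 124, 4, 188],
  ![-28, 208, -59, 20, 3, 45, -83, -12, -74, -6, -22, 44, -36],
  ![-78, -82, 1, -5, -2, -42, -7, 0, 63, 4, 40, 39, 69],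
  ![-42, 426, -121, 49, 0, 92, -153, -20, -167, -4, -52, 69, -77],
  ![60, -396, 118, -46, 0, -80, 154, 20, 146, 4, 40, -78, 58],
  ![-36, 476, -130, 52, 0, 108, -166, -24, -192, 0, -68, 76, -96],
  ![-32, 208, -60, 24, 0, 44, -80, -12, -80, 0, -24, 44, -32],
  ![34, -214, 63, -24, 0, -44, 83, 12, 80, 0, 24, -46, 32]]

/-- points -/
def c12S : Fin 13 → Fin 3 → ℤ :=
  ![![1, -1, 0],
  ![1, -1, -1],
  ![-1, 0, -1],
  ![0, -1, 1],
  ![0, 0, 0],
  ![0, -1, 0],
  ![1, -1, 1],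
  ![-1, -1, -1],
  ![-1, 0, 0],
  ![1, 0, 1],
  ![0, 0, 1],
  ![1, 1, 1],
  ![0, 0, -1]]

/-- points -/
def c12T : Fin 13 → Fin 3 → ℤ :=
  ![![-1, 1, -1],
  ![-1, 1, 0],
  ![0, 1, -1],
  ![-1, 0, -1],
  ![0, 1, 0],
  ![0, 0, -1],
  ![0, 0, 1],
  ![-1, 1, 1],
  ![0, 0, 0],
  ![-1, 0, 1],
  ![0, -1, 0],
  ![0, 1, 1],
  ![-1, 0, 0]]

/-- the matrix -/
def c12M : Fin 13 → Fin 13 → ℤ :=
  ![![-1, 0, 0, 0, 0, 1, 1, -1, 1, 0, 8, 0, 0],
  ![-4, -1, 0, 0, 0, 4, 0, 0, 1, 0, 2, 0, 0],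
  ![8, 0, 1, 18, 0, 4, 0, 8, 1, 2, 4, 1, 2],
  ![0, 0, 0, 1, 0, 0, 4, 0, 1, 1, 8, 0, 1],
  ![1, 1, 1, 1, 1, 1, 1, 1, 1, 1, 1, 1, 1],
  ![0, 0, 0, 4, 0, 1, 1, 0, 1, 0, 8, 0, 1],
  ![0, -1, 0, 0, 0, 0, 4, -4, 1, 0, 18, 0, 0],
  ![4, 1, 0, 32, 0, 4, 0, 16, 1, 8, 18, 0, 2],
  ![2, 2, 1, 2, 1, 1, 1, 2, 1, 2, 1, 1, 2],
  ![0, 0, 1, 0, 0, 0, 4, 0, 1, 0, 4, 1, 0],
  ![0, 1, 0, 0, 1, 0, 4, 4, 1, 4, 1, 4, 1],
  ![0, 1, 0, 0, 2, 0, 4, 4, 1, 0, 0, 8, 0],
  ![4, 1, 4, 4, 1, 4, 0, 0, 1, 0, 1, 0, 1]]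

/-- the inverse times 64 -/
def c12N : Fin 13 → Fin 13 → ℤ :=
  ![![12, -3, 10, 0, 4, -20, 5, -3, 4, -2, -2, -1, -4],
  ![-48, 48, 8, -128, -48, -80, 72, 8, 176, 120, -64, 0, -64],
  ![56, -51, -24, 96, -16, 80, -73, -1, -120, -80, 54, 3, 76],
  ![-48, 21, 4, -64, 8, -8, 35, 3, 48, 52, -18, -5, -28],
  ![-40, 12, -4, 32, 120, -56, 24, 8, -24, -28, -40, 12, -16],
  ![-20, 33, 10, -32, -28, -52, 33, 1, 68, 30, -26, 3, -20],
  ![-44, 27, 6, -32, -4, -44, 35, 3, 60, 50, -30, 1, -28],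
  ![84, -41, -10, 128, -4, 20, -73, -1, -100, -94, 26, 13, 52],
  ![32, -8, 16, -64, 96, 32, -8, -8, -32, 48, 16, -24, -32],
  ![-32, 15, 4, -64, 8, -8, 33, 1, 32, 36, 10, -15, -20],
  ![24, -12, -4, 32, -8, 8, -16, 0, -24, -28, 8, 4, 16],
  ![-8, -1, 0, -32, -32, 32, 5, -3, 8, 8, 18, 1, 4],
  ![32, -40, -16, 128, -32, 96, -72, -8, -96, -112, 48, 8, 64]]

private noncomputable def _root_.Cfsg.Agent.KO26e8738.k2.{ku0, ku1} : type_of% @Multiset.foldr.{ku0, ku1} := @(fun x0 x1 x2 x3 x4 x5 => @Quot.lift.{(ku1+1), (ku0+1)} _ _ _ @(fun x6 => @List.foldr.{ku1, ku0} _ _ @x2 @x4 @x6) @(fun x6 x7 x8 => @List.Perm.foldr_eq.{ku1, ku0} _ _ _ _ _ _ @x8 @x4) @x5)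
private theorem _root_.Cfsg.Agent.KO26e8738.e2.{ku0, ku1} : @Multiset.foldr.{ku0, ku1} = @_root_.Cfsg.Agent.KO26e8738.k2.{ku0, ku1} := by delta _root_.Cfsg.Agent.KO26e8738.k2; rfl'
private noncomputable def _root_.Cfsg.Agent.KO26e8738.k4s : (by first | exact Subtype (fun g => @Multiset.sum.{0} (ℤ) _ = @g) | exact Unit : Sort _) := by first | (refine @Subtype.mk _ _ (@Cfsg.Agent.KO26e8738.k2.{0, 0} _ _ @(fun x0 x1 => @Int.add @x0 @x1) (@Multiset.sum._proof_1.{0} _ _) (@Int.ofNat (nat_lit 0))) ?_; rewrite [← Cfsg.Agent.KO26e8738.e2.{0, 0}]; (try delta Multiset.sum); with_reducible_and_instances rfl) | exact ⟨_, rfl⟩ | exact ()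
private noncomputable def _root_.Cfsg.Agent.KO26e8738.k4 : (by first | exact type_of% (@Subtype.val _ _ _root_.Cfsg.Agent.KO26e8738.k4s) | exact Unit : Sort _) := by first | exact @Subtype.val _ _ _root_.Cfsg.Agent.KO26e8738.k4s | exact ()
private theorem _root_.Cfsg.Agent.KO26e8738.e4 : (by first | exact type_of% (show _ = @_root_.Cfsg.Agent.KO26e8738.k4 from @Subtype.property _ _ _root_.Cfsg.Agent.KO26e8738.k4s) | exact True : Prop) := by first | exact @Subtype.property _ _ _root_.Cfsg.Agent.KO26e8738.k4s | trivial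
private noncomputable def _root_.Cfsg.Agent.KO26e8738.k7s : (by first | exact Subtype (fun g => @Finset.sum.{0, 0} (@Fin ((13 : ℕ))) (ℤ) _ = @g) | exact Unit : Sort _) := by first | (refine @Subtype.mk _ _ (@(fun x0 x1 => @Cfsg.Agent.KO26e8738.k4 (@Quot.lift.{1, 1} _ _ _ @(fun x2 => @Quot.mk.{1} _ (@Setoid.r.{1} _ _) (@List.map.{0, 0} _ _ @x1 @x2)) (@Multiset.map._proof_1.{0, 0} _ _ @x1) (@Finset.val.{0} _ @x0)))) ?_; rewrite [← Cfsg.Agent.KO26e8738.e4]; rfl') | exact ⟨_, rfl⟩ | exact ()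
private noncomputable def _root_.Cfsg.Agent.KO26e8738.k7 : (by first | exact type_of% (@Subtype.val _ _ _root_.Cfsg.Agent.KO26e8738.k7s) | exact Unit : Sort _) := by first | exact @Subtype.val _ _ _root_.Cfsg.Agent.KO26e8738.k7s | exact ()
private theorem _root_.Cfsg.Agent.KO26e8738.e7 : (by first | exact type_of% (show _ = @_root_.Cfsg.Agent.KO26e8738.k7 from @Subtype.property _ _ _root_.Cfsg.Agent.KO26e8738.k7s) | exact True : Prop) := by first | exact @Subtype.property _ _ _root_.Cfsg.Agent.KO26e8738.k7s | trivial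
private noncomputable def _root_.Cfsg.Agent.KO26e8738.k8 : type_of% @Int.mul := @(letI c0 := @Int.rec.{1}; letI c1 := @Int.ofNat; letI c2 := @Nat.mul; letI c3 := @Nat.rec.{1}; letI c4 := @Int.negSucc; letI c5 := @Nat.succ; @(fun x0 x1 => @c0 @(fun x2 => ℤ) @(fun x2 => @c0 @(fun x3 => ℤ) @(fun x3 => @c1 (@c2 @x2 @x3)) @(fun x3 => @c3 @(fun x4 => ℤ) (@c1 (nat_lit 0)) @(fun x4 x5 => @c4 @x4) (@c2 @x2 (@c5 @x3))) @x1) @(fun x2 => @c0 @(fun x3 => ℤ) @(fun x3 => @c3 @(fun x4 => ℤ) (@c1 (nat_lit 0)) @(fun x4 x5 => @c4 @x4) (@c2 (@c5 @x2) @x3)) @(fun x3 => @c1 (@c2 (@c5 @x2) (@c5 @x3))) @x1) @x0))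
private theorem _root_.Cfsg.Agent.KO26e8738.e8 : @Int.mul = @_root_.Cfsg.Agent.KO26e8738.k8 := by delta _root_.Cfsg.Agent.KO26e8738.k8; rfl'
private noncomputable def _root_.Cfsg.Agent.KO26e8738.k9s : (by first | exact Subtype (fun g => @HMul.hMul.{0, 0, 0} (ℤ) (ℤ) (ℤ) _ = @g) | exact Unit : Sort _) := by first | (refine @Subtype.mk _ _ (@(fun x0 x1 => @Cfsg.Agent.KO26e8738.k8 @x0 @x1)) ?_; rewrite [← Cfsg.Agent.KO26e8738.e8]; rfl') | exact ⟨_, rfl⟩ | exact ()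
private noncomputable def _root_.Cfsg.Agent.KO26e8738.k9 : (by first | exact type_of% (@Subtype.val _ _ _root_.Cfsg.Agent.KO26e8738.k9s) | exact Unit : Sort _) := by first | exact @Subtype.val _ _ _root_.Cfsg.Agent.KO26e8738.k9s | exact ()
private theorem _root_.Cfsg.Agent.KO26e8738.e9 : (by first | exact type_of% (show _ = @_root_.Cfsg.Agent.KO26e8738.k9 from @Subtype.property _ _ _root_.Cfsg.Agent.KO26e8738.k9s) | exact True : Prop) := by first | exact @Subtype.property _ _ _root_.Cfsg.Agent.KO26e8738.k9s | trivial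
private noncomputable def _root_.Cfsg.Agent.KO26e8738.k10 : type_of% @Decidable.decide := @(fun x0 x1 => @Decidable.rec.{1} _ @(fun x2 => @Bool) @(fun x2 => @Bool.false) @(fun x2 => @Bool.true) @x1)
private theorem _root_.Cfsg.Agent.KO26e8738.e10 : @Decidable.decide = @_root_.Cfsg.Agent.KO26e8738.k10 := by delta _root_.Cfsg.Agent.KO26e8738.k10; rfl'
private noncomputable def _root_.Cfsg.Agent.KO26e8738.k11l (n : Nat) (P : ∀ k, k < n → Prop) (H : ∀ k h, Decidable (P k h)) (m : Nat) : m ≤ n → Bool := @Nat.rec (fun m => m ≤ n → Bool) (fun _ => true) (fun k ih h => @Decidable.rec (P k h) (fun _ => Bool) (fun _ => false) (fun _ => ih (Nat.le_of_succ_le h)) (H k h)) m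
private theorem _root_.Cfsg.Agent.KO26e8738.k11ls (n : Nat) (P : ∀ k, k < n → Prop) (H : ∀ k h, Decidable (P k h)) (m : Nat) : ∀ h : m ≤ n, _root_.Cfsg.Agent.KO26e8738.k11l n P H m h = true ↔ ∀ k (g : k < m), P k (Nat.lt_of_lt_of_le g h) := by induction m with | zero => exact fun _ => ⟨fun _ _ g => absurd g (Nat.not_lt_zero _), fun _ => rfl⟩ | succ m ih => intro h; show @Decidable.rec (P m h) (fun _ => Bool) (fun _ => false) (fun _ => _root_.Cfsg.Agent.KO26e8738.k11l n P H m (Nat.le_of_succ_le h)) (H m h) = true ↔ _; cases H m h with | isFalse q => exact ⟨fun g => absurd g Bool.false_ne_true, fun g => absurd (g m (Nat.lt_succ_self m)) q⟩ | isTrue q => exact ⟨fun g k hk => (Nat.lt_succ_iff_lt_or_eq.1 hk).elim ((ih _).1 g k) fun e => by subst e; exact q, fun g => (ih _).2 fun k hk => g k (Nat.lt_succ_of_lt hk)⟩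
private noncomputable def _root_.Cfsg.Agent.KO26e8738.k11 (n : Nat) (P : ∀ k, k < n → Prop) (H : ∀ k h, Decidable (P k h)) : Decidable (∀ k h, P k h) := @Bool.rec (fun b => _root_.Cfsg.Agent.KO26e8738.k11l n P H n (Nat.le_refl n) = b → Decidable (∀ k h, P k h)) (fun g => isFalse fun q => Bool.false_ne_true (g.symm.trans ((_root_.Cfsg.Agent.KO26e8738.k11ls n P H n _).2 fun k h => q k h))) (fun g => isTrue fun k h => (_root_.Cfsg.Agent.KO26e8738.k11ls n P H n _).1 g k h) (_root_.Cfsg.Agent.KO26e8738.k11l n P H n (Nat.le_refl n)) rfl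
private noncomputable def _root_.Cfsg.Agent.KO26e8738.k12 : type_of% @Nat.decidableForallFin := @(fun x0 x1 x2 => @Decidable.rec.{1} _ @(fun x3 => @Decidable ((x4 : @Fin @x0) → @x1 @x4)) @(fun x3 => @Decidable.isFalse _ (@decidable_of_decidable_of_iff._proof_1 _ _ (@Nat.decidableForallFin._proof_1 _ @x1) @x3)) @(fun x3 => @Decidable.isTrue _ (@Iff.mp _ _ (@Nat.decidableForallFin._proof_1 _ @x1) @x3)) (@Cfsg.Agent.KO26e8738.k11 @x0 @(fun x3 x4 => @x1 (@Fin.mk _ @x3 @x4)) @(fun x3 x4 => @x2 (@Fin.mk _ @x3 @x4))))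
private theorem _root_.Cfsg.Agent.KO26e8738.e12 : @Nat.decidableForallFin = @_root_.Cfsg.Agent.KO26e8738.k12 := by delta _root_.Cfsg.Agent.KO26e8738.k12; exact Subsingleton.elim _ _
private noncomputable def _root_.Cfsg.Agent.KO26e8738.k13 : type_of% @Nat.decEq := @(letI c0 := @Nat.beq; @(fun x0 x1 => @Bool.rec.{1} @(fun x2 => (@Eq.{1} _ (@c0 @x0 @x1) @x2) → @Decidable (@Eq.{1} _ @x0 @x1)) @(fun x2 => @Decidable.isFalse _ (@Nat.ne_of_beq_eq_false _ _ @x2)) @(fun x2 => @Decidable.isTrue _ (@Nat.eq_of_beq_eq_true _ _ @x2)) (@c0 @x0 @x1) (@Eq.refl.{1} _ (@c0 @x0 @x1))))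
private noncomputable def _root_.Cfsg.Agent.KO26e8738.k14 : type_of% @Int.decEq := @(letI c0 := @Int.rec.{1}; letI c1 := @Int.ofNat; letI c2 := @Decidable.rec.{1}; letI c3 := @Decidable.isFalse; letI c4 := @Decidable.isTrue; letI c5 := @Int.negSucc; @(fun x0 x1 => @c0 @(fun x2 => @Decidable (@Eq.{1} _ @x2 @x1)) @(fun x2 => @c0 @(fun x3 => @Decidable (@Eq.{1} _ (@c1 @x2) @x3)) @(fun x3 => @c2 _ @(fun x4 => @Decidable (@Eq.{1} _ (@c1 @x2) (@c1 @x3))) @(fun x4 => @c3 _ (@Int.decEq._proof_2 @x2 @x3 @x4)) @(fun x4 => @c4 _ (@Int.decEq._proof_1 @x2 @x3 @x4)) (@Cfsg.Agent.KO26e8738.k13 @x2 @x3)) @(fun x3 => @c3 _ (@Int.decEq._proof_3 @x2 @x3)) @x1) @(fun x2 => @c0 @(fun x3 => @Decidable (@Eq.{1} _ (@c5 @x2) @x3)) @(fun x3 => @c3 _ (@Int.decEq._proof_4 @x2 @x3)) @(fun x3 => @c2 _ @(fun x4 => @Decidable (@Eq.{1} _ (@c5 @x2) (@c5 @x3))) @(fun x4 => @c3 _ (@Int.decEq._proof_6 @x2 @x3 @x4)) @(fun x4 => @c4 _ (@Int.decEq._proof_5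 @x2 @x3 @x4)) (@Cfsg.Agent.KO26e8738.k13 @x2 @x3)) @x1) @x0))
private noncomputable def _root_.Cfsg.Agent.KO26e8738.k15 : type_of% @Int.instDecidableEq := @Cfsg.Agent.KO26e8738.k14
private theorem _root_.Cfsg.Agent.KO26e8738.e15 : @Int.instDecidableEq = @_root_.Cfsg.Agent.KO26e8738.k15 := by delta _root_.Cfsg.Agent.KO26e8738.k15; exact Subsingleton.elim _ _
private noncomputable def _root_.Cfsg.Agent.KO26e8738.k16.{ku} {α : Type ku} {n : Nat} (h : α) (t : Fin n → α) (i : Fin n.succ) : α := @Nat.rec (fun m => m < n.succ → α) (fun _ => h) (fun j _ g => t ⟨j, Nat.lt_of_succ_lt_succ g⟩) i.1 i.2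
private theorem _root_.Cfsg.Agent.KO26e8738.e16.{ku} : @Matrix.vecCons.{ku} = @_root_.Cfsg.Agent.KO26e8738.k16.{ku} := funext fun α => funext fun n => funext fun h => funext fun t => funext fun i => by cases i with | mk m g => cases m <;> rfl
private noncomputable def _root_.Cfsg.Agent.KO26e8738.k17s : (by first | exact Subtype (fun g => @Cfsg.Agent.H887.DS.c22N = @g) | exact Unit : Sort _) := by first | exact ⟨_, by delta Cfsg.Agent.H887.DS.c22N; rewrite [Cfsg.Agent.KO26e8738.e16.{0}]; exact rfl⟩ | exact ⟨_, rfl⟩ | exact ()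
private noncomputable def _root_.Cfsg.Agent.KO26e8738.k17 : (by first | exact type_of% (@Subtype.val _ _ _root_.Cfsg.Agent.KO26e8738.k17s) | exact Unit : Sort _) := by first | exact @Subtype.val _ _ _root_.Cfsg.Agent.KO26e8738.k17s | exact ()
private theorem _root_.Cfsg.Agent.KO26e8738.e17 : (by first | exact type_of% (show _ = @_root_.Cfsg.Agent.KO26e8738.k17 from @Subtype.property _ _ _root_.Cfsg.Agent.KO26e8738.k17s) | exact True : Prop) := by first | exact @Subtype.property _ _ _root_.Cfsg.Agent.KO26e8738.k17s | trivial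
private noncomputable def _root_.Cfsg.Agent.KO26e8738.k18s : (by first | exact Subtype (fun g => @Cfsg.Agent.H887.DS.c22M = @g) | exact Unit : Sort _) := by first | exact ⟨_, by delta Cfsg.Agent.H887.DS.c22M; rewrite [Cfsg.Agent.KO26e8738.e16.{0}]; exact rfl⟩ | exact ⟨_, rfl⟩ | exact ()
private noncomputable def _root_.Cfsg.Agent.KO26e8738.k18 : (by first | exact type_of% (@Subtype.val _ _ _root_.Cfsg.Agent.KO26e8738.k18s) | exact Unit : Sort _) := by first | exact @Subtype.val _ _ _root_.Cfsg.Agent.KO26e8738.k18s | exact ()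
private theorem _root_.Cfsg.Agent.KO26e8738.e18 : (by first | exact type_of% (show _ = @_root_.Cfsg.Agent.KO26e8738.k18 from @Subtype.property _ _ _root_.Cfsg.Agent.KO26e8738.k18s) | exact True : Prop) := by first | exact @Subtype.property _ _ _root_.Cfsg.Agent.KO26e8738.k18s | trivial
private noncomputable def _root_.Cfsg.Agent.KO26e8738.k19.{ku0} : type_of% @ite.{ku0} := @(fun x0 x1 x2 x3 x4 => @Decidable.rec.{ku0} _ @(fun x5 => @x0) @(fun x5 => @x4) @(fun x5 => @x3) @x2)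
private theorem _root_.Cfsg.Agent.KO26e8738.e19.{ku0} : @ite.{ku0} = @_root_.Cfsg.Agent.KO26e8738.k19.{ku0} := by delta _root_.Cfsg.Agent.KO26e8738.k19; rfl'
private noncomputable def _root_.Cfsg.Agent.KO26e8738.k20 : type_of% @instDecidableEqFin := @(letI c0 := @Fin.val; @(fun x0 x1 x2 => @Decidable.rec.{1} _ @(fun x3 => @Decidable (@Eq.{1} _ @x1 @x2)) @(fun x3 => @Decidable.isFalse _ (@instDecidableEqFin._proof_1 @x0 @x1 @x2 @x3)) @(fun x3 => @Decidable.isTrue _ (@Fin.eq_of_val_eq _ _ _ @x3)) (@Cfsg.Agent.KO26e8738.k13 (@c0 _ @x1) (@c0 _ @x2))))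
private theorem _root_.Cfsg.Agent.KO26e8738.e20 : @instDecidableEqFin = @_root_.Cfsg.Agent.KO26e8738.k20 := by delta _root_.Cfsg.Agent.KO26e8738.k20; exact Subsingleton.elim _ _

theorem c22_inv : ∀ i j : Fin 13, ∑ m, c22N i m * c22M m j = if i = j then 64 else 0 := by (first | (refine of_decide_eq_true ?_; rewrite [Cfsg.Agent.KO26e8738.e7, Cfsg.Agent.KO26e8738.e9, Cfsg.Agent.KO26e8738.e10, Cfsg.Agent.KO26e8738.e12, Cfsg.Agent.KO26e8738.e15, Cfsg.Agent.KO26e8738.e17, Cfsg.Agent.KO26e8738.e18, Cfsg.Agent.KO26e8738.e19.{1}, Cfsg.Agent.KO26e8738.e20]; decide +kernel) | decide +kernel)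

private noncomputable def _root_.Cfsg.Agent.KO26e8738.k3 : type_of% @Int.add := @(letI c0 := @Int.rec.{1}; letI c1 := @Int.ofNat; letI c2 := @Nat.add; letI c3 := @Nat.rec.{1}; letI c4 := @Nat.sub; letI c5 := @Nat.succ; letI c6 := @Int.negSucc; @(fun x0 x1 => @c0 @(fun x2 => ℤ) @(fun x2 => @c0 @(fun x3 => ℤ) @(fun x3 => @c1 (@c2 @x2 @x3)) @(fun x3 => @c3 @(fun x4 => ℤ) (@c1 (@c4 @x2 (@c5 @x3))) @(fun x4 x5 => @c6 @x4) (@c4 (@c5 @x3) @x2)) @x1) @(fun x2 => @c0 @(fun x3 => ℤ) @(fun x3 => @c3 @(fun x4 => ℤ) (@c1 (@c4 @x3 (@c5 @x2))) @(fun x4 x5 => @c6 @x4) (@c4 (@c5 @x2) @x3)) @(fun x3 => @c6 (@c5 (@c2 @x2 @x3))) @x1) @x0))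
private theorem _root_.Cfsg.Agent.KO26e8738.e3 : @Int.add = @_root_.Cfsg.Agent.KO26e8738.k3 := by delta _root_.Cfsg.Agent.KO26e8738.k3; rfl'
private noncomputable def _root_.Cfsg.Agent.KO26e8738.oEq.{ku} (α : Sort ku) (a b : Nat) (f t : α) : α := @Decidable.rec (a = b) (fun _ => α) (fun _ => f) (fun _ => t) (Nat.decEq a b)
private noncomputable def _root_.Cfsg.Agent.KO26e8738.k21.{ku} (α : Sort ku) (a b : Nat) (f t : α) : α := @Bool.rec (fun _ => α) f t (Nat.beq a b)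
private theorem _root_.Cfsg.Agent.KO26e8738.e21.{ku} : @_root_.Cfsg.Agent.KO26e8738.oEq.{ku} = @_root_.Cfsg.Agent.KO26e8738.k21.{ku} := funext fun α => funext fun a => funext fun b => funext fun f => funext fun t => by delta _root_.Cfsg.Agent.KO26e8738.oEq _root_.Cfsg.Agent.KO26e8738.k21; cases h : Nat.beq a b <;> cases Nat.decEq a b <;> rename_i g <;> first | rfl | exact absurd g (Nat.ne_of_beq_eq_false h) | exact absurd (Nat.eq_of_beq_eq_true h) g
private noncomputable def _root_.Cfsg.Agent.KO26e8738.k22 : type_of% @Int.pow := @(letI c0 := @Int.ofNat; letI c1 := @Nat.pow; letI c2 := @Nat.succ; @(fun x0 x1 => @Int.rec.{1} @(fun x2 => ℤ) @(fun x2 => @c0 (@c1 @x2 @x1)) @(fun x2 => @Cfsg.Agent.KO26e8738.k21.{1} ℤ (@Nat.mod @x1 (nat_lit 2)) (nat_lit 0) (@Nat.rec.{1} @(fun x3 => ℤ) (@c0 (nat_lit 0)) @(fun x3 x4 => @Int.negSucc @x3) (@c1 (@c2 @x2) @x1)) (@c0 (@c1 (@c2 @x2) @x1))) @x0))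
private theorem _root_.Cfsg.Agent.KO26e8738.e22 : @Int.pow = @_root_.Cfsg.Agent.KO26e8738.k22 := by delta _root_.Cfsg.Agent.KO26e8738.k22; rewrite [← Cfsg.Agent.KO26e8738.e21.{1}]; rfl'
private noncomputable def _root_.Cfsg.Agent.KO26e8738.k23s : (by first | exact Subtype (fun g => @HPow.hPow.{0, 0, 0} (ℤ) (ℕ) (ℤ) _ = @g) | exact Unit : Sort _) := by first | (refine @Subtype.mk _ _ (@(fun x0 x1 => @Cfsg.Agent.KO26e8738.k22 @x0 @x1)) ?_; rewrite [← Cfsg.Agent.KO26e8738.e22]; rfl') | exact ⟨_, rfl⟩ | exact ()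
private noncomputable def _root_.Cfsg.Agent.KO26e8738.k23 : (by first | exact type_of% (@Subtype.val _ _ _root_.Cfsg.Agent.KO26e8738.k23s) | exact Unit : Sort _) := by first | exact @Subtype.val _ _ _root_.Cfsg.Agent.KO26e8738.k23s | exact ()
private theorem _root_.Cfsg.Agent.KO26e8738.e23 : (by first | exact type_of% (show _ = @_root_.Cfsg.Agent.KO26e8738.k23 from @Subtype.property _ _ _root_.Cfsg.Agent.KO26e8738.k23s) | exact True : Prop) := by first | exact @Subtype.property _ _ _root_.Cfsg.Agent.KO26e8738.k23s | trivial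
private noncomputable def _root_.Cfsg.Agent.KO26e8738.k24s : (by first | exact Subtype (fun g => @HAdd.hAdd.{0, 0, 0} (ℤ) (ℤ) (ℤ) _ = @g) | exact Unit : Sort _) := by first | (refine @Subtype.mk _ _ (@(fun x0 x1 => @Cfsg.Agent.KO26e8738.k3 @x0 @x1)) ?_; rewrite [← Cfsg.Agent.KO26e8738.e3]; rfl') | exact ⟨_, rfl⟩ | exact ()
private noncomputable def _root_.Cfsg.Agent.KO26e8738.k24 : (by first | exact type_of% (@Subtype.val _ _ _root_.Cfsg.Agent.KO26e8738.k24s) | exact Unit : Sort _) := by first | exact @Subtype.val _ _ _root_.Cfsg.Agent.KO26e8738.k24s | exact ()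
private theorem _root_.Cfsg.Agent.KO26e8738.e24 : (by first | exact type_of% (show _ = @_root_.Cfsg.Agent.KO26e8738.k24 from @Subtype.property _ _ _root_.Cfsg.Agent.KO26e8738.k24s) | exact True : Prop) := by first | exact @Subtype.property _ _ _root_.Cfsg.Agent.KO26e8738.k24s | trivial
private noncomputable def _root_.Cfsg.Agent.KO26e8738.k25s : (by first | exact Subtype (fun g => @HSub.hSub.{0, 0, 0} (ℤ) (ℤ) (ℤ) _ = @g) | exact Unit : Sort _) := by first | (refine @Subtype.mk _ _ (@(letI c0 := @Int.ofNat; @(fun x0 x1 => @Cfsg.Agent.KO26e8738.k3 @x0 (@Int.rec.{1} @(fun x2 => ℤ) @(fun x2 => @Nat.rec.{1} @(fun x3 => ℤ) (@c0 (nat_lit 0)) @(fun x3 x4 => @Int.negSucc @x3) @x2) @(fun x2 => @c0 (@Nat.succ @x2)) @x1)))) ?_; rewrite [← Cfsg.Agent.KO26e8738.e3]; rfl') | exact ⟨_, rfl⟩ | exact ()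
private noncomputable def _root_.Cfsg.Agent.KO26e8738.k25 : (by first | exact type_of% (@Subtype.val _ _ _root_.Cfsg.Agent.KO26e8738.k25s) | exact Unit : Sort _) := by first | exact @Subtype.val _ _ _root_.Cfsg.Agent.KO26e8738.k25s | exact ()
private theorem _root_.Cfsg.Agent.KO26e8738.e25 : (by first | exact type_of% (show _ = @_root_.Cfsg.Agent.KO26e8738.k25 from @Subtype.property _ _ _root_.Cfsg.Agent.KO26e8738.k25s) | exact True : Prop) := by first | exact @Subtype.property _ _ _root_.Cfsg.Agent.KO26e8738.k25s | trivial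
private noncomputable def _root_.Cfsg.Agent.KO26e8738.k26s : (by first | exact Subtype (fun g => @Cfsg.Agent.H887.DS.c22S = @g) | exact Unit : Sort _) := by first | exact ⟨_, by delta Cfsg.Agent.H887.DS.c22S; rewrite [Cfsg.Agent.KO26e8738.e16.{0}]; exact rfl⟩ | exact ⟨_, rfl⟩ | exact ()
private noncomputable def _root_.Cfsg.Agent.KO26e8738.k26 : (by first | exact type_of% (@Subtype.val _ _ _root_.Cfsg.Agent.KO26e8738.k26s) | exact Unit : Sort _) := by first | exact @Subtype.val _ _ _root_.Cfsg.Agent.KO26e8738.k26s | exact ()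
private theorem _root_.Cfsg.Agent.KO26e8738.e26 : (by first | exact type_of% (show _ = @_root_.Cfsg.Agent.KO26e8738.k26 from @Subtype.property _ _ _root_.Cfsg.Agent.KO26e8738.k26s) | exact True : Prop) := by first | exact @Subtype.property _ _ _root_.Cfsg.Agent.KO26e8738.k26s | trivial
private noncomputable def _root_.Cfsg.Agent.KO26e8738.k27s : (by first | exact Subtype (fun g => @Cfsg.Agent.H887.DS.c22T = @g) | exact Unit : Sort _) := by first | exact ⟨_, by delta Cfsg.Agent.H887.DS.c22T; rewrite [Cfsg.Agent.KO26e8738.e16.{0}]; exact rfl⟩ | exact ⟨_, rfl⟩ | exact ()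
private noncomputable def _root_.Cfsg.Agent.KO26e8738.k27 : (by first | exact type_of% (@Subtype.val _ _ _root_.Cfsg.Agent.KO26e8738.k27s) | exact Unit : Sort _) := by first | exact @Subtype.val _ _ _root_.Cfsg.Agent.KO26e8738.k27s | exact ()
private theorem _root_.Cfsg.Agent.KO26e8738.e27 : (by first | exact type_of% (show _ = @_root_.Cfsg.Agent.KO26e8738.k27 from @Subtype.property _ _ _root_.Cfsg.Agent.KO26e8738.k27s) | exact True : Prop) := by first | exact @Subtype.property _ _ _root_.Cfsg.Agent.KO26e8738.k27s | trivial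

theorem c22_eq : ∀ i j : Fin 13, c22M i j = (1 + c22S i 0 * c22T j 0 + c22S i 1 * c22T j 1) ^ 2 *
    (1 + c22S i 2 * c22T j 2 + (c22S i 0 * c22S i 2 - c22S i 1) * (c22T j 0 * c22T j 2 - c22T j 1)) ^ 2 := by
  (first | (refine of_decide_eq_true ?_; rewrite [Cfsg.Agent.KO26e8738.e23, Cfsg.Agent.KO26e8738.e25, Cfsg.Agent.KO26e8738.e9, Cfsg.Agent.KO26e8738.e24, Cfsg.Agent.KO26e8738.e10, Cfsg.Agent.KO26e8738.e12, Cfsg.Agent.KO26e8738.e15, Cfsg.Agent.KO26e8738.e18, Cfsg.Agent.KO26e8738.e26, Cfsg.Agent.KO26e8738.e27]; decide +kernel) | decide +kernel)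

private noncomputable def _root_.Cfsg.Agent.KO26e8738.k28s : (by first | exact Subtype (fun g => @Cfsg.Agent.H887.DS.c13N = @g) | exact Unit : Sort _) := by first | exact ⟨_, by delta Cfsg.Agent.H887.DS.c13N; rewrite [Cfsg.Agent.KO26e8738.e16.{0}]; exact rfl⟩ | exact ⟨_, rfl⟩ | exact ()
private noncomputable def _root_.Cfsg.Agent.KO26e8738.k28 : (by first | exact type_of% (@Subtype.val _ _ _root_.Cfsg.Agent.KO26e8738.k28s) | exact Unit : Sort _) := by first | exact @Subtype.val _ _ _root_.Cfsg.Agent.KO26e8738.k28s | exact ()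
private theorem _root_.Cfsg.Agent.KO26e8738.e28 : (by first | exact type_of% (show _ = @_root_.Cfsg.Agent.KO26e8738.k28 from @Subtype.property _ _ _root_.Cfsg.Agent.KO26e8738.k28s) | exact True : Prop) := by first | exact @Subtype.property _ _ _root_.Cfsg.Agent.KO26e8738.k28s | trivial
private noncomputable def _root_.Cfsg.Agent.KO26e8738.k29s : (by first | exact Subtype (fun g => @Cfsg.Agent.H887.DS.c13M = @g) | exact Unit : Sort _) := by first | exact ⟨_, by delta Cfsg.Agent.H887.DS.c13M; rewrite [Cfsg.Agent.KO26e8738.e16.{0}]; exact rfl⟩ | exact ⟨_, rfl⟩ | exact ()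
private noncomputable def _root_.Cfsg.Agent.KO26e8738.k29 : (by first | exact type_of% (@Subtype.val _ _ _root_.Cfsg.Agent.KO26e8738.k29s) | exact Unit : Sort _) := by first | exact @Subtype.val _ _ _root_.Cfsg.Agent.KO26e8738.k29s | exact ()
private theorem _root_.Cfsg.Agent.KO26e8738.e29 : (by first | exact type_of% (show _ = @_root_.Cfsg.Agent.KO26e8738.k29 from @Subtype.property _ _ _root_.Cfsg.Agent.KO26e8738.k29s) | exact True : Prop) := by first | exact @Subtype.property _ _ _root_.Cfsg.Agent.KO26e8738.k29s | trivial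

theorem c13_inv : ∀ i j : Fin 13, ∑ m, c13N i m * c13M m j = if i = j then 768 else 0 := by (first | (refine of_decide_eq_true ?_; rewrite [Cfsg.Agent.KO26e8738.e7, Cfsg.Agent.KO26e8738.e9, Cfsg.Agent.KO26e8738.e10, Cfsg.Agent.KO26e8738.e12, Cfsg.Agent.KO26e8738.e15, Cfsg.Agent.KO26e8738.e28, Cfsg.Agent.KO26e8738.e29, Cfsg.Agent.KO26e8738.e19.{1}, Cfsg.Agent.KO26e8738.e20]; decide +kernel) | decide +kernel)

private noncomputable def _root_.Cfsg.Agent.KO26e8738.k30s : (by first | exact Subtype (fun g => @Cfsg.Agent.H887.DS.c13S = @g) | exact Unit : Sort _) := by first | exact ⟨_, by delta Cfsg.Agent.H887.DS.c13S; rewrite [Cfsg.Agent.KO26e8738.e16.{0}]; exact rfl⟩ | exact ⟨_, rfl⟩ | exact ()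
private noncomputable def _root_.Cfsg.Agent.KO26e8738.k30 : (by first | exact type_of% (@Subtype.val _ _ _root_.Cfsg.Agent.KO26e8738.k30s) | exact Unit : Sort _) := by first | exact @Subtype.val _ _ _root_.Cfsg.Agent.KO26e8738.k30s | exact ()
private theorem _root_.Cfsg.Agent.KO26e8738.e30 : (by first | exact type_of% (show _ = @_root_.Cfsg.Agent.KO26e8738.k30 from @Subtype.property _ _ _root_.Cfsg.Agent.KO26e8738.k30s) | exact True : Prop) := by first | exact @Subtype.property _ _ _root_.Cfsg.Agent.KO26e8738.k30s | trivial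
private noncomputable def _root_.Cfsg.Agent.KO26e8738.k31s : (by first | exact Subtype (fun g => @Cfsg.Agent.H887.DS.c13T = @g) | exact Unit : Sort _) := by first | exact ⟨_, by delta Cfsg.Agent.H887.DS.c13T; rewrite [Cfsg.Agent.KO26e8738.e16.{0}]; exact rfl⟩ | exact ⟨_, rfl⟩ | exact ()
private noncomputable def _root_.Cfsg.Agent.KO26e8738.k31 : (by first | exact type_of% (@Subtype.val _ _ _root_.Cfsg.Agent.KO26e8738.k31s) | exact Unit : Sort _) := by first | exact @Subtype.val _ _ _root_.Cfsg.Agent.KO26e8738.k31s | exact ()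
private theorem _root_.Cfsg.Agent.KO26e8738.e31 : (by first | exact type_of% (show _ = @_root_.Cfsg.Agent.KO26e8738.k31 from @Subtype.property _ _ _root_.Cfsg.Agent.KO26e8738.k31s) | exact True : Prop) := by first | exact @Subtype.property _ _ _root_.Cfsg.Agent.KO26e8738.k31s | trivial

theorem c13_eq : ∀ i j : Fin 13, c13M i j = (1 + c13S i 0 * c13T j 0 + c13S i 1 * c13T j 1) *
    (1 + c13S i 2 * c13T j 2 + (c13S i 0 * c13S i 2 - c13S i 1) * (c13T j 0 * c13T j 2 - c13T j 1)) ^ 3 := by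
  (first | (refine of_decide_eq_true ?_; rewrite [Cfsg.Agent.KO26e8738.e23, Cfsg.Agent.KO26e8738.e25, Cfsg.Agent.KO26e8738.e24, Cfsg.Agent.KO26e8738.e9, Cfsg.Agent.KO26e8738.e10, Cfsg.Agent.KO26e8738.e12, Cfsg.Agent.KO26e8738.e15, Cfsg.Agent.KO26e8738.e29, Cfsg.Agent.KO26e8738.e30, Cfsg.Agent.KO26e8738.e31]; decide +kernel) | decide +kernel)

private noncomputable def _root_.Cfsg.Agent.KO26e8738.k32s : (by first | exact Subtype (fun g => @Cfsg.Agent.H887.DS.c12N = @g) | exact Unit : Sort _) := by first | exact ⟨_, by delta Cfsg.Agent.H887.DS.c12N; rewrite [Cfsg.Agent.KO26e8738.e16.{0}]; exact rfl⟩ | exact ⟨_, rfl⟩ | exact ()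
private noncomputable def _root_.Cfsg.Agent.KO26e8738.k32 : (by first | exact type_of% (@Subtype.val _ _ _root_.Cfsg.Agent.KO26e8738.k32s) | exact Unit : Sort _) := by first | exact @Subtype.val _ _ _root_.Cfsg.Agent.KO26e8738.k32s | exact ()
private theorem _root_.Cfsg.Agent.KO26e8738.e32 : (by first | exact type_of% (show _ = @_root_.Cfsg.Agent.KO26e8738.k32 from @Subtype.property _ _ _root_.Cfsg.Agent.KO26e8738.k32s) | exact True : Prop) := by first | exact @Subtype.property _ _ _root_.Cfsg.Agent.KO26e8738.k32s | trivial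
private noncomputable def _root_.Cfsg.Agent.KO26e8738.k33s : (by first | exact Subtype (fun g => @Cfsg.Agent.H887.DS.c12M = @g) | exact Unit : Sort _) := by first | exact ⟨_, by delta Cfsg.Agent.H887.DS.c12M; rewrite [Cfsg.Agent.KO26e8738.e16.{0}]; exact rfl⟩ | exact ⟨_, rfl⟩ | exact ()
private noncomputable def _root_.Cfsg.Agent.KO26e8738.k33 : (by first | exact type_of% (@Subtype.val _ _ _root_.Cfsg.Agent.KO26e8738.k33s) | exact Unit : Sort _) := by first | exact @Subtype.val _ _ _root_.Cfsg.Agent.KO26e8738.k33s | exact ()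
private theorem _root_.Cfsg.Agent.KO26e8738.e33 : (by first | exact type_of% (show _ = @_root_.Cfsg.Agent.KO26e8738.k33 from @Subtype.property _ _ _root_.Cfsg.Agent.KO26e8738.k33s) | exact True : Prop) := by first | exact @Subtype.property _ _ _root_.Cfsg.Agent.KO26e8738.k33s | trivial

theorem c12_inv : ∀ i j : Fin 13, ∑ m, c12N i m * c12M m j = if i = j then 64 else 0 := by (first | (refine of_decide_eq_true ?_; rewrite [Cfsg.Agent.KO26e8738.e7, Cfsg.Agent.KO26e8738.e9, Cfsg.Agent.KO26e8738.e10, Cfsg.Agent.KO26e8738.e12, Cfsg.Agent.KO26e8738.e15, Cfsg.Agent.KO26e8738.e32, Cfsg.Agent.KO26e8738.e33, Cfsg.Agent.KO26e8738.e19.{1}, Cfsg.Agent.KO26e8738.e20]; decide +kernel) | decide +kernel)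

private noncomputable def _root_.Cfsg.Agent.KO26e8738.k34s : (by first | exact Subtype (fun g => @Cfsg.Agent.H887.DS.c12S = @g) | exact Unit : Sort _) := by first | exact ⟨_, by delta Cfsg.Agent.H887.DS.c12S; rewrite [Cfsg.Agent.KO26e8738.e16.{0}]; exact rfl⟩ | exact ⟨_, rfl⟩ | exact ()
private noncomputable def _root_.Cfsg.Agent.KO26e8738.k34 : (by first | exact type_of% (@Subtype.val _ _ _root_.Cfsg.Agent.KO26e8738.k34s) | exact Unit : Sort _) := by first | exact @Subtype.val _ _ _root_.Cfsg.Agent.KO26e8738.k34s | exact ()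
private theorem _root_.Cfsg.Agent.KO26e8738.e34 : (by first | exact type_of% (show _ = @_root_.Cfsg.Agent.KO26e8738.k34 from @Subtype.property _ _ _root_.Cfsg.Agent.KO26e8738.k34s) | exact True : Prop) := by first | exact @Subtype.property _ _ _root_.Cfsg.Agent.KO26e8738.k34s | trivial
private noncomputable def _root_.Cfsg.Agent.KO26e8738.k35s : (by first | exact Subtype (fun g => @Cfsg.Agent.H887.DS.c12T = @g) | exact Unit : Sort _) := by first | exact ⟨_, by delta Cfsg.Agent.H887.DS.c12T; rewrite [Cfsg.Agent.KO26e8738.e16.{0}]; exact rfl⟩ | exact ⟨_, rfl⟩ | exact ()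
private noncomputable def _root_.Cfsg.Agent.KO26e8738.k35 : (by first | exact type_of% (@Subtype.val _ _ _root_.Cfsg.Agent.KO26e8738.k35s) | exact Unit : Sort _) := by first | exact @Subtype.val _ _ _root_.Cfsg.Agent.KO26e8738.k35s | exact ()
private theorem _root_.Cfsg.Agent.KO26e8738.e35 : (by first | exact type_of% (show _ = @_root_.Cfsg.Agent.KO26e8738.k35 from @Subtype.property _ _ _root_.Cfsg.Agent.KO26e8738.k35s) | exact True : Prop) := by first | exact @Subtype.property _ _ _root_.Cfsg.Agent.KO26e8738.k35s | trivial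

theorem c12_eq : ∀ i j : Fin 13, c12M i j = (1 + c12S i 0 * c12T j 0 + c12S i 1 * c12T j 1) *
    (1 + c12S i 2 * c12T j 2 + (c12S i 0 * c12S i 2 - c12S i 1) * (c12T j 0 * c12T j 2 - c12T j 1)) ^ 2 := by
  (first | (refine of_decide_eq_true ?_; rewrite [Cfsg.Agent.KO26e8738.e23, Cfsg.Agent.KO26e8738.e25, Cfsg.Agent.KO26e8738.e24, Cfsg.Agent.KO26e8738.e9, Cfsg.Agent.KO26e8738.e10, Cfsg.Agent.KO26e8738.e12, Cfsg.Agent.KO26e8738.e15, Cfsg.Agent.KO26e8738.e33, Cfsg.Agent.KO26e8738.e34, Cfsg.Agent.KO26e8738.e35]; decide +kernel) | decide +kernel)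

/-- the leading entry -/
def z1 (s t : Fin 5 → ℤ) : ℤ := 1 + s 0 * t 0 + s 1 * t 1 + s 2 * t 2

/-- the leading minor -/
def z2 (s t : Fin 5 → ℤ) : ℤ := z1 s t * (1 + s 3 * t 3 + s 4 * t 4) - (s 0 + s 1 * t 3 + s 2 * t 4) *
  (t 0 + s 3 * t 1 + s 4 * t 2)

/-- the last entry of the inverse -/
def z3 (s t : Fin 5 → ℤ) : ℤ := 1 + s 3 * t 3 + s 4 * t 4 + (s 0 * s 3 + s 1 * s 4 - s 2) * (t 0 * t 3 + t 1 * t 4 - t 2)

private noncomputable def _root_.Cfsg.Agent.KO26e8738.k36s : (by first | exact Subtype (fun g => @Cfsg.Agent.H887.DS.d110N = @g) | exact Unit : Sort _) := by first | exact ⟨_, by delta Cfsg.Agent.H887.DS.d110N; rewrite [Cfsg.Agent.KO26e8738.e16.{0}]; exact rfl⟩ | exact ⟨_, rfl⟩ | exact ()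
private noncomputable def _root_.Cfsg.Agent.KO26e8738.k36 : (by first | exact type_of% (@Subtype.val _ _ _root_.Cfsg.Agent.KO26e8738.k36s) | exact Unit : Sort _) := by first | exact @Subtype.val _ _ _root_.Cfsg.Agent.KO26e8738.k36s | exact ()
private theorem _root_.Cfsg.Agent.KO26e8738.e36 : (by first | exact type_of% (show _ = @_root_.Cfsg.Agent.KO26e8738.k36 from @Subtype.property _ _ _root_.Cfsg.Agent.KO26e8738.k36s) | exact True : Prop) := by first | exact @Subtype.property _ _ _root_.Cfsg.Agent.KO26e8738.k36s | trivial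
private noncomputable def _root_.Cfsg.Agent.KO26e8738.k37s : (by first | exact Subtype (fun g => @Cfsg.Agent.H887.DS.d110M = @g) | exact Unit : Sort _) := by first | exact ⟨_, by delta Cfsg.Agent.H887.DS.d110M; rewrite [Cfsg.Agent.KO26e8738.e16.{0}]; exact rfl⟩ | exact ⟨_, rfl⟩ | exact ()
private noncomputable def _root_.Cfsg.Agent.KO26e8738.k37 : (by first | exact type_of% (@Subtype.val _ _ _root_.Cfsg.Agent.KO26e8738.k37s) | exact Unit : Sort _) := by first | exact @Subtype.val _ _ _root_.Cfsg.Agent.KO26e8738.k37s | exact ()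
private theorem _root_.Cfsg.Agent.KO26e8738.e37 : (by first | exact type_of% (show _ = @_root_.Cfsg.Agent.KO26e8738.k37 from @Subtype.property _ _ _root_.Cfsg.Agent.KO26e8738.k37s) | exact True : Prop) := by first | exact @Subtype.property _ _ _root_.Cfsg.Agent.KO26e8738.k37s | trivial

theorem d110_inv : ∀ i j : Fin 13, ∑ m, d110N i m * d110M m j = if i = j then 1 else 0 := by (first | (refine of_decide_eq_true ?_; rewrite [Cfsg.Agent.KO26e8738.e7, Cfsg.Agent.KO26e8738.e9, Cfsg.Agent.KO26e8738.e10, Cfsg.Agent.KO26e8738.e12, Cfsg.Agent.KO26e8738.e15, Cfsg.Agent.KO26e8738.e36, Cfsg.Agent.KO26e8738.e37, Cfsg.Agent.KO26e8738.e19.{1}, Cfsg.Agent.KO26e8738.e20]; decide +kernel) | decide +kernel)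

private noncomputable def _root_.Cfsg.Agent.KO26e8738.k38 : (by first | exact type_of% @Cfsg.Agent.H887.DS.z1 | exact Unit : Sort _) := by first | (refine @Subtype.val _ (fun g => @Cfsg.Agent.H887.DS.z1 = @g) (@Subtype.mk _ _ (@(letI c0 := @Cfsg.Agent.KO26e8738.k3; letI c1 := @Cfsg.Agent.KO26e8738.k8; letI c2 := @Fin.mk; letI c3 := @Fin.ofNat._proof_1; @(fun x0 x1 => @c0 (@c0 (@c0 (@Int.ofNat (nat_lit 1)) (@c1 (@x0 (@c2 (nat_lit 5) (nat_lit 0) (@c3 ((5 : ℕ)) _ (nat_lit 0)))) (@x1 (@c2 (nat_lit 5) (nat_lit 0) (@c3 ((5 : ℕ)) _ (nat_lit 0)))))) (@c1 (@x0 (@c2 (nat_lit 5) (nat_lit 1) (@c3 ((5 : ℕ)) _ (nat_lit 1)))) (@x1 (@c2 (nat_lit 5) (nat_lit 1) (@c3 ((5 : ℕ)) _ (nat_lit 1)))))) (@c1 (@x0 (@c2 (nat_lit 5) (nat_lit 2) (@c3 ((5 : ℕ)) _ (nat_lit 2)))) (@x1 (@c2 (nat_lit 5) (nat_lit 2) (@c3 ((5 : ℕ)) _ (nat_lit 2)))))))) ?_); rewrite [← Cfsg.Agent.KO26e8738.e8, ← Cfsg.Agent.KO26e8738.e3]; rfl') | exact @Cfsg.Agent.H887.DS.z1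 | exact ()
private theorem _root_.Cfsg.Agent.KO26e8738.e38 : (by first | exact @Cfsg.Agent.H887.DS.z1 = @_root_.Cfsg.Agent.KO26e8738.k38 | exact True : Prop) := by first | (delta _root_.Cfsg.Agent.KO26e8738.k38; exact @Subtype.property _ (fun g => @Cfsg.Agent.H887.DS.z1 = @g) _) | rfl | trivial
private noncomputable def _root_.Cfsg.Agent.KO26e8738.k39s : (by first | exact Subtype (fun g => @Cfsg.Agent.H887.DS.d110S = @g) | exact Unit : Sort _) := by first | exact ⟨_, by delta Cfsg.Agent.H887.DS.d110S; rewrite [Cfsg.Agent.KO26e8738.e16.{0}]; exact rfl⟩ | exact ⟨_, rfl⟩ | exact ()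
private noncomputable def _root_.Cfsg.Agent.KO26e8738.k39 : (by first | exact type_of% (@Subtype.val _ _ _root_.Cfsg.Agent.KO26e8738.k39s) | exact Unit : Sort _) := by first | exact @Subtype.val _ _ _root_.Cfsg.Agent.KO26e8738.k39s | exact ()
private theorem _root_.Cfsg.Agent.KO26e8738.e39 : (by first | exact type_of% (show _ = @_root_.Cfsg.Agent.KO26e8738.k39 from @Subtype.property _ _ _root_.Cfsg.Agent.KO26e8738.k39s) | exact True : Prop) := by first | exact @Subtype.property _ _ _root_.Cfsg.Agent.KO26e8738.k39s | trivial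
private noncomputable def _root_.Cfsg.Agent.KO26e8738.k40s : (by first | exact Subtype (fun g => @Cfsg.Agent.H887.DS.d110T = @g) | exact Unit : Sort _) := by first | exact ⟨_, by delta Cfsg.Agent.H887.DS.d110T; rewrite [Cfsg.Agent.KO26e8738.e16.{0}]; exact rfl⟩ | exact ⟨_, rfl⟩ | exact ()
private noncomputable def _root_.Cfsg.Agent.KO26e8738.k40 : (by first | exact type_of% (@Subtype.val _ _ _root_.Cfsg.Agent.KO26e8738.k40s) | exact Unit : Sort _) := by first | exact @Subtype.val _ _ _root_.Cfsg.Agent.KO26e8738.k40s | exact ()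
private theorem _root_.Cfsg.Agent.KO26e8738.e40 : (by first | exact type_of% (show _ = @_root_.Cfsg.Agent.KO26e8738.k40 from @Subtype.property _ _ _root_.Cfsg.Agent.KO26e8738.k40s) | exact True : Prop) := by first | exact @Subtype.property _ _ _root_.Cfsg.Agent.KO26e8738.k40s | trivial
private noncomputable def _root_.Cfsg.Agent.KO26e8738.k41 : (by first | exact type_of% @Cfsg.Agent.H887.DS.z2 | exact Unit : Sort _) := by first | (refine @Subtype.val _ (fun g => @Cfsg.Agent.H887.DS.z2 = @g) (@Subtype.mk _ _ (@(letI c0 := @Cfsg.Agent.KO26e8738.k3; letI c1 := @Cfsg.Agent.KO26e8738.k8; letI c2 := @Int.ofNat; letI c3 := @Fin.mk; letI c4 := @Fin.ofNat._proof_1; @(fun x0 x1 => @c0 (@c1 (@Cfsg.Agent.KO26e8738.k38 @x0 @x1) (@c0 (@c0 (@c2 (nat_lit 1)) (@c1 (@x0 (@c3 (nat_lit 5) (nat_lit 3) (@c4 ((5 : ℕ)) _ (nat_lit 3)))) (@x1 (@c3 (nat_lit 5) (nat_lit 3) (@c4 ((5 : ℕ)) _ (nat_lit 3)))))) (@c1 (@x0 (@c3 (nat_lit 5) (nat_lit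 4) (@c4 ((5 : ℕ)) _ (nat_lit 4)))) (@x1 (@c3 (nat_lit 5) (nat_lit 4) (@c4 ((5 : ℕ)) _ (nat_lit 4))))))) (@Int.rec.{1} @(fun x2 => ℤ) @(fun x2 => @Nat.rec.{1} @(fun x3 => ℤ) (@c2 (nat_lit 0)) @(fun x3 x4 => @Int.negSucc @x3) @x2) @(fun x2 => @c2 (@Nat.succ @x2)) (@c1 (@c0 (@c0 (@x0 (@c3 (nat_lit 5) (nat_lit 0) (@c4 ((5 : ℕ)) _ (nat_lit 0)))) (@c1 (@x0 (@c3 (nat_lit 5) (nat_lit 1) (@c4 ((5 : ℕ)) _ (nat_lit 1)))) (@x1 (@c3 (nat_lit 5) (nat_lit 3) (@c4 ((5 : ℕ)) _ (nat_lit 3)))))) (@c1 (@x0 (@c3 (nat_lit 5) (nat_lit 2) (@c4 ((5 : ℕ)) _ (nat_lit 2)))) (@x1 (@c3 (nat_lit 5) (nat_lit 4) (@c4 ((5 : ℕ)) _ (nat_lit 4)))))) (@c0 (@c0 (@x1 (@c3 (nat_lit 5) (nat_lit 0) (@c4 ((5 : ℕ)) _ (nat_lit 0)))) (@c1 (@x0 (@c3 (nat_lit 5) (nat_lit 3) (@c4 ((5 : ℕ)) _ (nat_lit 3)))) (@x1 (@c3 (nat_lit 5) (nat_lit 1) (@c4 ((5 : ℕ)) _ (nat_lit 1)))))) (@c1 (@x0 (@c3 (nat_lit 5) (nat_lit 4) (@c4 ((5 : ℕ)) _ (nat_lit 4)))) (@x1 (@c3 (nat_lit 5)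 (nat_lit 2) (@c4 ((5 : ℕ)) _ (nat_lit 2))))))))))) ?_); rewrite [← Cfsg.Agent.KO26e8738.e38, ← Cfsg.Agent.KO26e8738.e8, ← Cfsg.Agent.KO26e8738.e3]; (try delta Cfsg.Agent.H887.DS.z2); (try generalize @Cfsg.Agent.H887.DS.z1 = g0); rfl') | exact @Cfsg.Agent.H887.DS.z2 | exact ()
private theorem _root_.Cfsg.Agent.KO26e8738.e41 : (by first | exact @Cfsg.Agent.H887.DS.z2 = @_root_.Cfsg.Agent.KO26e8738.k41 | exact True : Prop) := by first | (delta _root_.Cfsg.Agent.KO26e8738.k41; exact @Subtype.property _ (fun g => @Cfsg.Agent.H887.DS.z2 = @g) _) | rfl | trivial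

theorem d110_eq : ∀ i j : Fin 13, d110M i j = z1 (d110S i) (d110T j) * z2 (d110S i) (d110T j) := by
  (first | (refine of_decide_eq_true ?_; rewrite [Cfsg.Agent.KO26e8738.e9, Cfsg.Agent.KO26e8738.e10, Cfsg.Agent.KO26e8738.e12, Cfsg.Agent.KO26e8738.e15, Cfsg.Agent.KO26e8738.e37, Cfsg.Agent.KO26e8738.e38, Cfsg.Agent.KO26e8738.e39, Cfsg.Agent.KO26e8738.e40, Cfsg.Agent.KO26e8738.e41]; decide +kernel) | decide +kernel)

private noncomputable def _root_.Cfsg.Agent.KO26e8738.k42s : (by first | exact Subtype (fun g => @Cfsg.Agent.H887.DS.d101N = @g) | exact Unit : Sort _) := by first | exact ⟨_, by delta Cfsg.Agent.H887.DS.d101N; rewrite [Cfsg.Agent.KO26e8738.e16.{0}]; exact rfl⟩ | exact ⟨_, rfl⟩ | exact ()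
private noncomputable def _root_.Cfsg.Agent.KO26e8738.k42 : (by first | exact type_of% (@Subtype.val _ _ _root_.Cfsg.Agent.KO26e8738.k42s) | exact Unit : Sort _) := by first | exact @Subtype.val _ _ _root_.Cfsg.Agent.KO26e8738.k42s | exact ()
private theorem _root_.Cfsg.Agent.KO26e8738.e42 : (by first | exact type_of% (show _ = @_root_.Cfsg.Agent.KO26e8738.k42 from @Subtype.property _ _ _root_.Cfsg.Agent.KO26e8738.k42s) | exact True : Prop) := by first | exact @Subtype.property _ _ _root_.Cfsg.Agent.KO26e8738.k42s | trivial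
private noncomputable def _root_.Cfsg.Agent.KO26e8738.k43s : (by first | exact Subtype (fun g => @Cfsg.Agent.H887.DS.d101M = @g) | exact Unit : Sort _) := by first | exact ⟨_, by delta Cfsg.Agent.H887.DS.d101M; rewrite [Cfsg.Agent.KO26e8738.e16.{0}]; exact rfl⟩ | exact ⟨_, rfl⟩ | exact ()
private noncomputable def _root_.Cfsg.Agent.KO26e8738.k43 : (by first | exact type_of% (@Subtype.val _ _ _root_.Cfsg.Agent.KO26e8738.k43s) | exact Unit : Sort _) := by first | exact @Subtype.val _ _ _root_.Cfsg.Agent.KO26e8738.k43s | exact ()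
private theorem _root_.Cfsg.Agent.KO26e8738.e43 : (by first | exact type_of% (show _ = @_root_.Cfsg.Agent.KO26e8738.k43 from @Subtype.property _ _ _root_.Cfsg.Agent.KO26e8738.k43s) | exact True : Prop) := by first | exact @Subtype.property _ _ _root_.Cfsg.Agent.KO26e8738.k43s | trivial

theorem d101_inv : ∀ i j : Fin 13, ∑ m, d101N i m * d101M m j = if i = j then 1 else 0 := by (first | (refine of_decide_eq_true ?_; rewrite [Cfsg.Agent.KO26e8738.e7, Cfsg.Agent.KO26e8738.e9, Cfsg.Agent.KO26e8738.e10, Cfsg.Agent.KO26e8738.e12, Cfsg.Agent.KO26e8738.e15, Cfsg.Agent.KO26e8738.e42, Cfsg.Agent.KO26e8738.e43, Cfsg.Agent.KO26e8738.e19.{1}, Cfsg.Agent.KO26e8738.e20]; decide +kernel) | decide +kernel)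

private noncomputable def _root_.Cfsg.Agent.KO26e8738.k44s : (by first | exact Subtype (fun g => @Cfsg.Agent.H887.DS.d101S = @g) | exact Unit : Sort _) := by first | exact ⟨_, by delta Cfsg.Agent.H887.DS.d101S; rewrite [Cfsg.Agent.KO26e8738.e16.{0}]; exact rfl⟩ | exact ⟨_, rfl⟩ | exact ()
private noncomputable def _root_.Cfsg.Agent.KO26e8738.k44 : (by first | exact type_of% (@Subtype.val _ _ _root_.Cfsg.Agent.KO26e8738.k44s) | exact Unit : Sort _) := by first | exact @Subtype.val _ _ _root_.Cfsg.Agent.KO26e8738.k44s | exact ()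
private theorem _root_.Cfsg.Agent.KO26e8738.e44 : (by first | exact type_of% (show _ = @_root_.Cfsg.Agent.KO26e8738.k44 from @Subtype.property _ _ _root_.Cfsg.Agent.KO26e8738.k44s) | exact True : Prop) := by first | exact @Subtype.property _ _ _root_.Cfsg.Agent.KO26e8738.k44s | trivial
private noncomputable def _root_.Cfsg.Agent.KO26e8738.k45s : (by first | exact Subtype (fun g => @Cfsg.Agent.H887.DS.d101T = @g) | exact Unit : Sort _) := by first | exact ⟨_, by delta Cfsg.Agent.H887.DS.d101T; rewrite [Cfsg.Agent.KO26e8738.e16.{0}]; exact rfl⟩ | exact ⟨_, rfl⟩ | exact ()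
private noncomputable def _root_.Cfsg.Agent.KO26e8738.k45 : (by first | exact type_of% (@Subtype.val _ _ _root_.Cfsg.Agent.KO26e8738.k45s) | exact Unit : Sort _) := by first | exact @Subtype.val _ _ _root_.Cfsg.Agent.KO26e8738.k45s | exact ()
private theorem _root_.Cfsg.Agent.KO26e8738.e45 : (by first | exact type_of% (show _ = @_root_.Cfsg.Agent.KO26e8738.k45 from @Subtype.property _ _ _root_.Cfsg.Agent.KO26e8738.k45s) | exact True : Prop) := by first | exact @Subtype.property _ _ _root_.Cfsg.Agent.KO26e8738.k45s | trivial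
private noncomputable def _root_.Cfsg.Agent.KO26e8738.k46 : (by first | exact type_of% @Cfsg.Agent.H887.DS.z3 | exact Unit : Sort _) := by first | (refine @Subtype.val _ (fun g => @Cfsg.Agent.H887.DS.z3 = @g) (@Subtype.mk _ _ (@(letI c0 := @Cfsg.Agent.KO26e8738.k3; letI c1 := @Int.ofNat; letI c2 := @Cfsg.Agent.KO26e8738.k8; letI c3 := @Fin.mk; letI c4 := @Fin.ofNat._proof_1; letI c5 := @Int.rec.{1}; letI c6 := @Nat.rec.{1}; letI c7 := @Int.negSucc; letI c8 := @Nat.succ; @(fun x0 x1 => @c0 (@c0 (@c0 (@c1 (nat_lit 1)) (@c2 (@x0 (@c3 (nat_lit 5) (nat_lit 3) (@c4 ((5 : ℕ)) _ (nat_lit 3)))) (@x1 (@c3 (nat_lit 5) (nat_lit 3) (@c4 ((5 : ℕ)) _ (nat_lit 3)))))) (@c2 (@x0 (@c3 (nat_lit 5) (nat_lit 4) (@c4 ((5 : ℕ)) _ (nat_lit 4)))) (@x1 (@c3 (nat_lit 5) (nat_lit 4) (@c4 ((5 : ℕ)) _ (nat_lit 4)))))) (@c2 (@c0 (@c0 (@c2 (@x0 (@c3 (nat_lit 5) (nat_lit 0) (@c4 ((5 : ℕ)) _ (nat_lit 0)))) (@x0 (@c3 (nat_lit 5) (nat_lit 3) (@c4 ((5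 : ℕ)) _ (nat_lit 3))))) (@c2 (@x0 (@c3 (nat_lit 5) (nat_lit 1) (@c4 ((5 : ℕ)) _ (nat_lit 1)))) (@x0 (@c3 (nat_lit 5) (nat_lit 4) (@c4 ((5 : ℕ)) _ (nat_lit 4)))))) (@c5 @(fun x2 => ℤ) @(fun x2 => @c6 @(fun x3 => ℤ) (@c1 (nat_lit 0)) @(fun x3 x4 => @c7 @x3) @x2) @(fun x2 => @c1 (@c8 @x2)) (@x0 (@c3 (nat_lit 5) (nat_lit 2) (@c4 ((5 : ℕ)) _ (nat_lit 2)))))) (@c0 (@c0 (@c2 (@x1 (@c3 (nat_lit 5) (nat_lit 0) (@c4 ((5 : ℕ)) _ (nat_lit 0)))) (@x1 (@c3 (nat_lit 5) (nat_lit 3) (@c4 ((5 : ℕ)) _ (nat_lit 3))))) (@c2 (@x1 (@c3 (nat_lit 5) (nat_lit 1) (@c4 ((5 : ℕ)) _ (nat_lit 1)))) (@x1 (@c3 (nat_lit 5) (nat_lit 4) (@c4 ((5 : ℕ)) _ (nat_lit 4)))))) (@c5 @(fun x2 => ℤ) @(fun x2 => @c6 @(fun x3 => ℤ) (@c1 (nat_lit 0)) @(fun x3 x4 => @c7 @x3) @x2) @(fun x2 => @c1 (@c8 @x2)) (@x1 (@c3 (nat_lit 5) (nat_lit 2) (@c4 ((5 : ℕ)) _ (nat_lit 2)))))))))) ?_); rewrite [← Cfsg.Agent.KO26e8738.e8, ← Cfsg.Agent.KO26e8738.e3]; rfl') | exact @Cfsg.Agent.H887.DS.z3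 | exact ()
private theorem _root_.Cfsg.Agent.KO26e8738.e46 : (by first | exact @Cfsg.Agent.H887.DS.z3 = @_root_.Cfsg.Agent.KO26e8738.k46 | exact True : Prop) := by first | (delta _root_.Cfsg.Agent.KO26e8738.k46; exact @Subtype.property _ (fun g => @Cfsg.Agent.H887.DS.z3 = @g) _) | rfl | trivial

theorem d101_eq : ∀ i j : Fin 13, d101M i j = z1 (d101S i) (d101T j) * z3 (d101S i) (d101T j) := by
  (first | (refine of_decide_eq_true ?_; rewrite [Cfsg.Agent.KO26e8738.e9, Cfsg.Agent.KO26e8738.e10, Cfsg.Agent.KO26e8738.e12, Cfsg.Agent.KO26e8738.e15, Cfsg.Agent.KO26e8738.e43, Cfsg.Agent.KO26e8738.e38, Cfsg.Agent.KO26e8738.e44, Cfsg.Agent.KO26e8738.e45, Cfsg.Agent.KO26e8738.e46]; decide +kernel) | decide +kernel)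

private noncomputable def _root_.Cfsg.Agent.KO26e8738.k47s : (by first | exact Subtype (fun g => @Cfsg.Agent.H887.DS.d020N = @g) | exact Unit : Sort _) := by first | exact ⟨_, by delta Cfsg.Agent.H887.DS.d020N; rewrite [Cfsg.Agent.KO26e8738.e16.{0}]; exact rfl⟩ | exact ⟨_, rfl⟩ | exact ()
private noncomputable def _root_.Cfsg.Agent.KO26e8738.k47 : (by first | exact type_of% (@Subtype.val _ _ _root_.Cfsg.Agent.KO26e8738.k47s) | exact Unit : Sort _) := by first | exact @Subtype.val _ _ _root_.Cfsg.Agent.KO26e8738.k47s | exact ()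
private theorem _root_.Cfsg.Agent.KO26e8738.e47 : (by first | exact type_of% (show _ = @_root_.Cfsg.Agent.KO26e8738.k47 from @Subtype.property _ _ _root_.Cfsg.Agent.KO26e8738.k47s) | exact True : Prop) := by first | exact @Subtype.property _ _ _root_.Cfsg.Agent.KO26e8738.k47s | trivial
private noncomputable def _root_.Cfsg.Agent.KO26e8738.k48s : (by first | exact Subtype (fun g => @Cfsg.Agent.H887.DS.d020M = @g) | exact Unit : Sort _) := by first | exact ⟨_, by delta Cfsg.Agent.H887.DS.d020M; rewrite [Cfsg.Agent.KO26e8738.e16.{0}]; exact rfl⟩ | exact ⟨_, rfl⟩ | exact ()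
private noncomputable def _root_.Cfsg.Agent.KO26e8738.k48 : (by first | exact type_of% (@Subtype.val _ _ _root_.Cfsg.Agent.KO26e8738.k48s) | exact Unit : Sort _) := by first | exact @Subtype.val _ _ _root_.Cfsg.Agent.KO26e8738.k48s | exact ()
private theorem _root_.Cfsg.Agent.KO26e8738.e48 : (by first | exact type_of% (show _ = @_root_.Cfsg.Agent.KO26e8738.k48 from @Subtype.property _ _ _root_.Cfsg.Agent.KO26e8738.k48s) | exact True : Prop) := by first | exact @Subtype.property _ _ _root_.Cfsg.Agent.KO26e8738.k48s | trivial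

theorem d020_inv : ∀ i j : Fin 13, ∑ m, d020N i m * d020M m j = if i = j then 8 else 0 := by (first | (refine of_decide_eq_true ?_; rewrite [Cfsg.Agent.KO26e8738.e7, Cfsg.Agent.KO26e8738.e9, Cfsg.Agent.KO26e8738.e10, Cfsg.Agent.KO26e8738.e12, Cfsg.Agent.KO26e8738.e15, Cfsg.Agent.KO26e8738.e47, Cfsg.Agent.KO26e8738.e48, Cfsg.Agent.KO26e8738.e19.{1}, Cfsg.Agent.KO26e8738.e20]; decide +kernel) | decide +kernel)

private noncomputable def _root_.Cfsg.Agent.KO26e8738.k49s : (by first | exact Subtype (fun g => @Cfsg.Agent.H887.DS.d020S = @g) | exact Unit : Sort _) := by first | exact ⟨_, by delta Cfsg.Agent.H887.DS.d020S; rewrite [Cfsg.Agent.KO26e8738.e16.{0}]; exact rfl⟩ | exact ⟨_, rfl⟩ | exact ()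
private noncomputable def _root_.Cfsg.Agent.KO26e8738.k49 : (by first | exact type_of% (@Subtype.val _ _ _root_.Cfsg.Agent.KO26e8738.k49s) | exact Unit : Sort _) := by first | exact @Subtype.val _ _ _root_.Cfsg.Agent.KO26e8738.k49s | exact ()
private theorem _root_.Cfsg.Agent.KO26e8738.e49 : (by first | exact type_of% (show _ = @_root_.Cfsg.Agent.KO26e8738.k49 from @Subtype.property _ _ _root_.Cfsg.Agent.KO26e8738.k49s) | exact True : Prop) := by first | exact @Subtype.property _ _ _root_.Cfsg.Agent.KO26e8738.k49s | trivial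
private noncomputable def _root_.Cfsg.Agent.KO26e8738.k50s : (by first | exact Subtype (fun g => @Cfsg.Agent.H887.DS.d020T = @g) | exact Unit : Sort _) := by first | exact ⟨_, by delta Cfsg.Agent.H887.DS.d020T; rewrite [Cfsg.Agent.KO26e8738.e16.{0}]; exact rfl⟩ | exact ⟨_, rfl⟩ | exact ()
private noncomputable def _root_.Cfsg.Agent.KO26e8738.k50 : (by first | exact type_of% (@Subtype.val _ _ _root_.Cfsg.Agent.KO26e8738.k50s) | exact Unit : Sort _) := by first | exact @Subtype.val _ _ _root_.Cfsg.Agent.KO26e8738.k50s | exact ()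
private theorem _root_.Cfsg.Agent.KO26e8738.e50 : (by first | exact type_of% (show _ = @_root_.Cfsg.Agent.KO26e8738.k50 from @Subtype.property _ _ _root_.Cfsg.Agent.KO26e8738.k50s) | exact True : Prop) := by first | exact @Subtype.property _ _ _root_.Cfsg.Agent.KO26e8738.k50s | trivial

theorem d020_eq : ∀ i j : Fin 13, d020M i j = z2 (d020S i) (d020T j) ^ 2 := by
  (first | (refine of_decide_eq_true ?_; rewrite [Cfsg.Agent.KO26e8738.e23, Cfsg.Agent.KO26e8738.e10, Cfsg.Agent.KO26e8738.e12, Cfsg.Agent.KO26e8738.e15, Cfsg.Agent.KO26e8738.e48, Cfsg.Agent.KO26e8738.e41, Cfsg.Agent.KO26e8738.e49, Cfsg.Agent.KO26e8738.e50]; decide +kernel) | decide +kernel)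

end Cfsg.Agent.H887.DS
end

-- part: H887/DS/Cert
section
/-!
# Lower bounds for the dimension by integral certificates (helper887)

* `Rk f d` : the matrix `f (x * y)` has rank at most `d`; `rk_of_coef`, `Rk.inv`, `Rk.conj`, `Rk.mono`;
* `Rk.cert` : the certificate;
* `le_c12`, `le_c22`, `le_c13`, `le_d101`, `le_d110`, `le_d020` : the dimension is at least 13.
-/

set_option autoImplicit false
set_option linter.unusedSectionVars false

namespace Cfsg.Agent.H887.DS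

open Matrix Module
open Cfsg.Agent.TitsThree.KSideA (tv tv_of_ne tv_add tv_zero tv_neg tv_comm tv_commute)
open Cfsg.Agent.H905.Md

section rk

variable {G k : Type*} [Group G] [Field k]

/-- the rank of the matrix `f (x * y)` is at most `d` -/
def Rk (f : G → k) (d : ℕ) : Prop :=
  ∃ n ≤ d, ∃ ψ w : G → Fin n → k, ∀ x y, f (x * y) = ψ x ⬝ᵥ w y

theorem rk_of_coef {V : Type*} [AddCommGroup V] [Module k V] [FiniteDimensional k V] {ρ : G →* Module.End k V}
    {φ : Module.Dual k V} {v : V} {f : G → k} (hf : ∀ g, φ (ρ g v) = f g) : Rk f (finrank k V) := by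
  let b := Module.finBasis k V
  refine ⟨finrank k V, le_rfl, fun x i => φ (ρ x (b i)), fun y i => b.repr (ρ y v) i, fun x y => ?_⟩
  rw [← hf, map_mul, Module.End.mul_apply]
  conv_lhs => rw [← b.sum_repr (ρ y v)]
  rw [map_sum, map_sum, dotProduct]
  exact Finset.sum_congr rfl fun i _ => by rw [map_smul, map_smul, smul_eq_mul, mul_comm]

theorem Rk.inv {f : G → k} {d : ℕ} (h : Rk f d) : Rk (fun g => f g⁻¹) d := by
  obtain ⟨n, hn, ψ, w, h⟩ := h
  refine ⟨n, hn, fun x => w x⁻¹, fun y => ψ y⁻¹, fun x y => ?_⟩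
  change f (x * y)⁻¹ = _
  rw [_root_.mul_inv_rev, h, dotProduct_comm]

theorem Rk.conj {f : G → k} {d : ℕ} (h : Rk f d) (u : G) : Rk (fun g => f (u * g * u⁻¹)) d := by
  obtain ⟨n, hn, ψ, w, h⟩ := h
  refine ⟨n, hn, fun x => ψ (u * x), fun y => w (y * u⁻¹), fun x y => ?_⟩
  change f (u * (x * y) * u⁻¹) = _
  rw [← h]
  congr 1
  group

theorem Rk.congr {f f' : G → k} {d : ℕ} (h : Rk f d) (e : ∀ g, f' g = f g) : Rk f' d := by
  have : f' = f := funext e
  rwa [this]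

/-- **Functions of rank one.** -/
theorem Rk.mono {f : G → k} {d : ℕ} (h : Rk f d) {S T M : Type*} [Finite T] [Fintype M] (x : S → G) (y : T → G)
    {c : M → k} {F : M → S → k} {Gf : M → T → k} (hf : ∀ s t, f (x s * y t) = ∑ α, c α * F α s * Gf α t)
    (hc : ∀ α, c α ≠ 0) (rF rG : Finset M)
    (hF : ∀ x : M → k, (∀ s, ∑ α, x α * F α s = 0) → (∀ α ∈ rF, x α = 0) → x = 0)
    (hG : ∀ x : M → k, (∀ t, ∑ α, x α * Gf α t = 0) → (∀ α ∈ rG, x α = 0) → x = 0) :
    Fintype.card M ≤ d + rF.card + rG.card := by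
  obtain ⟨n, hn, ψ, w, h⟩ := h
  have h1 := card_le_finrank (V := Fin n → k) (c := c) (F := F) (Gf := Gf) (fun t => w (y t))
    (fun s => Fintype.linearCombination k (ψ (x s))) (fun s t => by
      rw [← hf, h, Fintype.linearCombination_apply, dotProduct_comm]
      rfl) hc rF rG (fun z hz _ hr => hF z hz hr) hG
  rw [Module.finrank_fintype_fun_eq_card, Fintype.card_fin] at h1
  omega

/-- **The certificate.** -/
theorem Rk.cert {f : G → k} {d : ℕ} (h : Rk f d) {r : ℕ} (x y : Fin r → G) (M N : Fin r → Fin r → ℤ) (c : ℤ)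
    (hM : ∀ i j, f (x i * y j) = (M i j : k)) (hN : ∀ i j, ∑ m, N i m * M m j = if i = j then c else 0)
    (hc : (c : k) ≠ 0) : r ≤ d := by
  obtain ⟨n, hn, ψ, w, h⟩ := h
  have hli : LinearIndependent k (fun j => w (y j)) := by
    rw [Fintype.linearIndependent_iff]
    intro a ha i
    have h1 : ∀ m, ∑ j, (M m j : k) * a j = 0 := by
      intro m
      have h2 := congrArg (fun u => ψ (x m) ⬝ᵥ u) ha
      simp only [dotProduct_zero] at h2
      rw [← h2, dotProduct_sum]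
      refine Finset.sum_congr rfl fun j _ => ?_
      rw [dotProduct_smul, ← h, hM, smul_eq_mul, mul_comm]
    have h3 : ∑ m, (N i m : k) * ∑ j, (M m j : k) * a j = (c : k) * a i := by
      simp only [Finset.mul_sum]
      rw [Finset.sum_comm, Finset.sum_eq_single i]
      · have h4 := congrArg (Int.cast : ℤ → k) (hN i i)
        rw [if_pos rfl] at h4
        push_cast at h4
        rw [← h4, Finset.sum_mul]
        exact Finset.sum_congr rfl fun m _ => by ring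
      · intro j _ hj
        have h4 := congrArg (Int.cast : ℤ → k) (hN i j)
        rw [if_neg hj.symm] at h4
        push_cast at h4
        rw [← zero_mul (a j), ← h4, Finset.sum_mul]
        exact Finset.sum_congr rfl fun m _ => by ring
      · intro h; exact absurd (Finset.mem_univ _) h
    have h5 : (c : k) * a i = 0 := by
      rw [← h3]
      exact Finset.sum_eq_zero fun m _ => by rw [h1, mul_zero]
    exact (mul_eq_zero.1 h5).resolve_left hc
  have h1 := hli.fintype_card_le_finrank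
  rw [Fintype.card_fin, Module.finrank_fintype_fun_eq_card, Fintype.card_fin] at h1
  omega

theorem int_pow {p : ℕ} [Fact p.Prime] [CharP k p] (i : ℕ) (m : ℤ) : (m : k) ^ p ^ i = (m : k) := by
  have h1 := map_intCast (iterateFrobenius k p i) m
  rwa [iterateFrobenius_def] at h1

end rk

section three

variable {E : Type*} [Field E]

/-- upper unipotent -/
def up (s : Fin 3 → E) : _root_.Matrix.SpecialLinearGroup (Fin (2 + 1)) E :=
  ⟨!![1, s 0, s 1; 0, 1, s 2; 0, 0, 1], by simp [Matrix.det_fin_three]⟩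

/-- its inverse -/
def upI (s : Fin 3 → E) : _root_.Matrix.SpecialLinearGroup (Fin (2 + 1)) E :=
  ⟨!![1, -s 0, s 0 * s 2 - s 1; 0, 1, -s 2; 0, 0, 1], by simp [Matrix.det_fin_three]⟩

/-- lower unipotent -/
def lo (s : Fin 3 → E) : _root_.Matrix.SpecialLinearGroup (Fin (2 + 1)) E :=
  ⟨!![1, 0, 0; s 0, 1, 0; s 1, s 2, 1], by simp [Matrix.det_fin_three]⟩

/-- its inverse -/
def loI (s : Fin 3 → E) : _root_.Matrix.SpecialLinearGroup (Fin (2 + 1)) E :=
  ⟨!![1, 0, 0; -s 0, 1, 0; s 0 * s 2 - s 1, -s 2, 1], by simp [Matrix.det_fin_three]⟩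

theorem up_inv (s : Fin 3 → E) : (up s)⁻¹ = upI s := by
  apply inv_eq_of_mul_eq_one_right
  apply Subtype.ext
  change (up s).1 * (upI s).1 = (1 : Matrix (Fin (2 + 1)) (Fin (2 + 1)) E)
  ext i j
  fin_cases i <;> fin_cases j <;> (simp [up, upI, Matrix.mul_apply, Fin.sum_univ_three]; try ring)

theorem lo_inv (s : Fin 3 → E) : (lo s)⁻¹ = loI s := by
  apply inv_eq_of_mul_eq_one_right
  apply Subtype.ext
  change (lo s).1 * (loI s).1 = (1 : Matrix (Fin (2 + 1)) (Fin (2 + 1)) E)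
  ext i j
  fin_cases i <;> fin_cases j <;> (simp [lo, loI, Matrix.mul_apply, Fin.sum_univ_three]; try ring)

variable {k : Type*} [Field k] (ι : E →+* k)

theorem xi_up_lo (a b : ℕ) (s t : Fin 3 → E) : xi ι a b (up s * lo t) =
    ι (1 + s 0 * t 0 + s 1 * t 1) ^ a * ι (1 + s 2 * t 2 + (s 0 * s 2 - s 1) * (t 0 * t 2 - t 1)) ^ b := by
  rw [xi_mul, up_inv, lo_inv]
  congr 3
  · rw [Fin.sum_univ_three]
    simp [up, lo]
  · rw [Fin.sum_univ_three]
    simp only [upI, loI, show Fin.last 2 = (2 : Fin 3) from rfl, _root_.Nat.reduceAdd, _root_.Fin.isValue, _root_.Matrix.of_apply, _root_.Matrix.cons_val', _root_.Matrix.cons_val, _root_.Matrix.cons_val_fin_one, _root_.Matrix.cons_val_zero, _root_.Matrix.cons_val_one, _root_.mul_neg, _root_.neg_mul, _root_.neg_neg, _root_.mul_one]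
    ring

variable {p : ℕ} [hp : Fact p.Prime] [CharP k p] {d : ℕ}

include hp in
theorem le_c22 (hp2 : p ≠ 2) {i j : ℕ} (h : Rk (xi ι (2 * p ^ i) (2 * p ^ j) : _root_.Matrix.SpecialLinearGroup (Fin (2 + 1)) E → k) d) : 13 ≤ d := by
  refine h.cert (fun i => up fun e => (c22S i e : E)) (fun i => lo fun e => (c22T i e : E)) c22M c22N 64 ?_ c22_inv ?_
  · intro a b
    rw [xi_up_lo, c22_eq, pow_mul', pow_mul']
    push_cast
    simp only [map_add, map_mul, map_sub, map_one, map_intCast]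
    norm_cast
    simp only [Int.cast_mul, Int.cast_pow, int_pow (p := p)]
  · intro h0
    rw [CharP.intCast_eq_zero_iff k p] at h0
    have h1 : (p : ℤ) ∣ (2 : ℤ) ^ 6 := by norm_num; exact h0
    have h2 : p ∣ 2 ^ 6 := by exact_mod_cast h1
    exact hp2 ((Nat.prime_dvd_prime_iff_eq hp.out Nat.prime_two).1 (hp.out.dvd_of_dvd_pow h2))

include hp in
theorem le_c12 (hp2 : p ≠ 2) {i j : ℕ} (h : Rk (xi ι (p ^ i) (2 * p ^ j) : _root_.Matrix.SpecialLinearGroup (Fin (2 + 1)) E → k) d) :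
    13 ≤ d := by
  refine h.cert (fun i => up fun e => (c12S i e : E)) (fun i => lo fun e => (c12T i e : E)) c12M c12N 64 ?_ c12_inv ?_
  · intro a b
    rw [xi_up_lo, c12_eq, pow_mul' _ 2 (p ^ j)]
    push_cast
    simp only [map_add, map_mul, map_sub, map_one, map_intCast]
    norm_cast
    simp only [Int.cast_mul, Int.cast_pow, int_pow (p := p)]
  · intro h0
    rw [CharP.intCast_eq_zero_iff k p] at h0
    have h1 : (p : ℤ) ∣ (2 : ℤ) ^ 6 := by norm_num; exact h0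
    have h2 : p ∣ 2 ^ 6 := by exact_mod_cast h1
    exact hp2 ((Nat.prime_dvd_prime_iff_eq hp.out Nat.prime_two).1 (hp.out.dvd_of_dvd_pow h2))

include hp in
theorem le_c13 (hp2 : 5 ≤ p) {i j : ℕ} (h : Rk (xi ι (p ^ i) (3 * p ^ j) : _root_.Matrix.SpecialLinearGroup (Fin (2 + 1)) E → k) d) : 13 ≤ d := by
  refine h.cert (fun i => up fun e => (c13S i e : E)) (fun i => lo fun e => (c13T i e : E)) c13M c13N 768 ?_ c13_inv ?_
  · intro a b
    rw [xi_up_lo, c13_eq, pow_mul' _ 3 (p ^ j)]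
    push_cast
    simp only [map_add, map_mul, map_sub, map_one, map_intCast]
    norm_cast
    simp only [Int.cast_mul, Int.cast_pow, int_pow (p := p)]
  · intro h0
    rw [CharP.intCast_eq_zero_iff k p] at h0
    have h1 : (p : ℤ) ∣ ((2 ^ 8 * 3 : ℕ) : ℤ) := by norm_num; exact h0
    have h2 : p ∣ 2 ^ 8 * 3 := by exact_mod_cast h1
    rcases hp.out.dvd_mul.1 h2 with h3 | h3
    · have := Nat.le_of_dvd (by norm_num) (hp.out.dvd_of_dvd_pow h3)
      omega
    · have := Nat.le_of_dvd (by norm_num) h3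
      omega

end three

section four

variable {E : Type*} [Field E]

/-- upper unipotent -/
def uA (s : Fin 5 → E) : _root_.Matrix.SpecialLinearGroup (Fin (3 + 1)) E :=
  ⟨!![1, s 0, s 1, s 2; 0, 1, s 3, s 4; 0, 0, 1, 0; 0, 0, 0, 1], by
    simp only [Matrix.det_succ_row_zero, Fin.sum_univ_succ, _root_.Nat.reduceAdd, _root_.Fin.isValue, _root_.Nat.succ_eq_add_one, _root_.Matrix.of_apply, _root_.Matrix.cons_val', _root_.Matrix.cons_val_fin_one, _root_.Matrix.cons_val_zero, _root_.Matrix.submatrix_apply, _root_.Fin.succ_zero_eq_one, _root_.Matrix.cons_val_one, _root_.Matrix.submatrix_submatrix, _root_.Function.comp_apply, _root_.Fin.succ_one_eq_two, _root_.Matrix.cons_val, _root_.Matrix.det_unique, _root_.Fin.default_eq_zero, _root_.Fin.reduceSucc, _root_.Fin.coe_ofNat_eq_mod, _root_.Nat.zero_mod, _root_.pow_zero, _root_.one_mul, _root_.Fin.zero_succAbove, _root_.Finset.univ_unique, _root_.Fin.val_succ, _root_.Fin.val_eq_zero,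 _root_.zero_add, _root_.pow_one, _root_.neg_mul, _root_.ne_eq, _root_.Fin.succ_ne_zero, _root_.not_false_eq_true, _root_.Fin.succAbove_ne_zero_zero, _root_.Finset.sum_neg_distrib, _root_.Finset.sum_singleton, _root_.Fin.succ_succAbove_one, _root_.even_two, _root_.Even.neg_pow, _root_.one_pow, _root_.mul_one, _root_.MulZeroClass.mul_zero, _root_.neg_zero, _root_.add_zero, _root_.Matrix.cons_val_succ, _root_.MulZeroClass.zero_mul, _root_.Finset.sum_const_zero]⟩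

/-- lower unipotent -/
def lA (s : Fin 5 → E) : _root_.Matrix.SpecialLinearGroup (Fin (3 + 1)) E :=
  ⟨!![1, 0, 0, 0; s 0, 1, 0, 0; s 1, s 3, 1, 0; s 2, s 4, 0, 1], by
    simp only [Matrix.det_succ_row_zero, Fin.sum_univ_succ, _root_.Nat.reduceAdd, _root_.Fin.isValue, _root_.Nat.succ_eq_add_one, _root_.Matrix.of_apply, _root_.Matrix.cons_val', _root_.Matrix.cons_val_fin_one, _root_.Matrix.cons_val_zero, _root_.Matrix.submatrix_apply, _root_.Fin.succ_zero_eq_one, _root_.Matrix.cons_val_one, _root_.Matrix.submatrix_submatrix, _root_.Function.comp_apply, _root_.Fin.succ_one_eq_two, _root_.Matrix.cons_val, _root_.Matrix.det_unique, _root_.Fin.default_eq_zero, _root_.Fin.reduceSucc, _root_.Fin.coe_ofNat_eq_mod, _root_.Nat.zero_mod, _root_.pow_zero, _root_.one_mul, _root_.Fin.zero_succAbove, _root_.Finset.univ_unique, _root_.Fin.val_succ, _root_.Fin.val_eq_zero, _root_.zero_add, _root_.pow_one, _root_.neg_mul, _root_.ne_eq,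 _root_.Fin.succ_ne_zero, _root_.not_false_eq_true, _root_.Fin.succAbove_ne_zero_zero, _root_.Finset.sum_neg_distrib, _root_.Finset.sum_singleton, _root_.Fin.succ_succAbove_one, _root_.even_two, _root_.Even.neg_pow, _root_.one_pow, _root_.mul_one, _root_.MulZeroClass.mul_zero, _root_.neg_zero, _root_.add_zero, _root_.MulZeroClass.zero_mul, _root_.mul_neg, _root_.Matrix.cons_val_succ, _root_.neg_add_rev, _root_.neg_neg, _root_.Finset.sum_const_zero]⟩

/-- upper unipotent -/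
def uB (s : Fin 5 → E) : _root_.Matrix.SpecialLinearGroup (Fin (3 + 1)) E :=
  ⟨!![1, s 0, s 1, s 2; 0, 1, 0, s 3; 0, 0, 1, s 4; 0, 0, 0, 1], by
    simp only [Matrix.det_succ_row_zero, Fin.sum_univ_succ, _root_.Nat.reduceAdd, _root_.Fin.isValue, _root_.Nat.succ_eq_add_one, _root_.Matrix.of_apply, _root_.Matrix.cons_val', _root_.Matrix.cons_val_fin_one, _root_.Matrix.cons_val_zero, _root_.Matrix.submatrix_apply, _root_.Fin.succ_zero_eq_one, _root_.Matrix.cons_val_one, _root_.Matrix.submatrix_submatrix, _root_.Function.comp_apply, _root_.Fin.succ_one_eq_two, _root_.Matrix.cons_val, _root_.Matrix.det_unique, _root_.Fin.default_eq_zero, _root_.Fin.reduceSucc, _root_.Fin.coe_ofNat_eq_mod, _root_.Nat.zero_mod, _root_.pow_zero, _root_.one_mul, _root_.Fin.zero_succAbove, _root_.Finset.univ_unique, _root_.Fin.val_succ, _root_.Fin.val_eq_zero, _root_.zero_add, _root_.pow_one, _root_.neg_mul, _root_.ne_eq, _root_.Fin.succ_ne_zero,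 _root_.not_false_eq_true, _root_.Fin.succAbove_ne_zero_zero, _root_.Finset.sum_neg_distrib, _root_.Finset.sum_singleton, _root_.Fin.succ_succAbove_one, _root_.even_two, _root_.Even.neg_pow, _root_.one_pow, _root_.mul_one, _root_.MulZeroClass.mul_zero, _root_.neg_zero, _root_.add_zero, _root_.Matrix.cons_val_succ, _root_.MulZeroClass.zero_mul, _root_.Finset.sum_const_zero]⟩

/-- its inverse -/
def uBI (s : Fin 5 → E) : _root_.Matrix.SpecialLinearGroup (Fin (3 + 1)) E :=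
  ⟨!![1, -s 0, -s 1, s 0 * s 3 + s 1 * s 4 - s 2; 0, 1, 0, -s 3; 0, 0, 1, -s 4; 0, 0, 0, 1], by
    simp only [Matrix.det_succ_row_zero, Fin.sum_univ_succ, _root_.Nat.reduceAdd, _root_.Fin.isValue, _root_.Nat.succ_eq_add_one, _root_.Matrix.of_apply, _root_.Matrix.cons_val', _root_.Matrix.cons_val_fin_one, _root_.Matrix.cons_val_zero, _root_.Matrix.submatrix_apply, _root_.Fin.succ_zero_eq_one, _root_.Matrix.cons_val_one, _root_.Matrix.submatrix_submatrix, _root_.Function.comp_apply, _root_.Fin.succ_one_eq_two, _root_.Matrix.cons_val, _root_.Matrix.det_unique, _root_.Fin.default_eq_zero, _root_.Fin.reduceSucc, _root_.Fin.coe_ofNat_eq_mod, _root_.Nat.zero_mod, _root_.pow_zero, _root_.one_mul, _root_.Fin.zero_succAbove, _root_.Finset.univ_unique, _root_.Fin.val_succ, _root_.Fin.val_eq_zero, _root_.zero_add, _root_.pow_one, _root_.neg_mul, _root_.ne_eq, _root_.Fin.succ_ne_zero, _root_.not_false_eq_true, _root_.Fin.succAbove_ne_zero_zero,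 _root_.Finset.sum_neg_distrib, _root_.Finset.sum_singleton, _root_.Fin.succ_succAbove_one, _root_.even_two, _root_.Even.neg_pow, _root_.one_pow, _root_.mul_one, _root_.MulZeroClass.mul_zero, _root_.neg_zero, _root_.add_zero, _root_.Matrix.cons_val_succ, _root_.MulZeroClass.zero_mul, _root_.Finset.sum_const_zero]⟩

/-- lower unipotent -/
def lB (s : Fin 5 → E) : _root_.Matrix.SpecialLinearGroup (Fin (3 + 1)) E :=
  ⟨!![1, 0, 0, 0; s 0, 1, 0, 0; s 1, 0, 1, 0; s 2, s 3, s 4, 1], by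
    simp only [Matrix.det_succ_row_zero, Fin.sum_univ_succ, _root_.Nat.reduceAdd, _root_.Fin.isValue, _root_.Nat.succ_eq_add_one, _root_.Matrix.of_apply, _root_.Matrix.cons_val', _root_.Matrix.cons_val_fin_one, _root_.Matrix.cons_val_zero, _root_.Matrix.submatrix_apply, _root_.Fin.succ_zero_eq_one, _root_.Matrix.cons_val_one, _root_.Matrix.submatrix_submatrix, _root_.Function.comp_apply, _root_.Fin.succ_one_eq_two, _root_.Matrix.cons_val, _root_.Matrix.det_unique, _root_.Fin.default_eq_zero, _root_.Fin.reduceSucc, _root_.Fin.coe_ofNat_eq_mod, _root_.Nat.zero_mod, _root_.pow_zero, _root_.one_mul, _root_.Fin.zero_succAbove, _root_.Finset.univ_unique, _root_.Fin.val_succ, _root_.Fin.val_eq_zero, _root_.zero_add, _root_.pow_one, _root_.neg_mul, _root_.ne_eq, _root_.Fin.succ_ne_zero, _root_.not_false_eq_true, _root_.Fin.succAbove_ne_zero_zero, _root_.Finset.sum_neg_distrib, _root_.Finset.sum_singleton, _root_.Fin.succ_succAbove_one,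 _root_.even_two, _root_.Even.neg_pow, _root_.one_pow, _root_.mul_one, _root_.MulZeroClass.zero_mul, _root_.neg_zero, _root_.add_zero, _root_.MulZeroClass.mul_zero, _root_.mul_neg, _root_.Matrix.cons_val_succ, _root_.neg_add_rev, _root_.neg_neg, _root_.Finset.sum_const_zero]⟩

/-- its inverse -/
def lBI (s : Fin 5 → E) : _root_.Matrix.SpecialLinearGroup (Fin (3 + 1)) E :=
  ⟨!![1, 0, 0, 0; -s 0, 1, 0, 0; -s 1, 0, 1, 0; s 0 * s 3 + s 1 * s 4 - s 2, -s 3, -s 4, 1], by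
    simp only [Matrix.det_succ_row_zero, Fin.sum_univ_succ, _root_.Nat.reduceAdd, _root_.Fin.isValue, _root_.Nat.succ_eq_add_one, _root_.Matrix.of_apply, _root_.Matrix.cons_val', _root_.Matrix.cons_val_fin_one, _root_.Matrix.cons_val_zero, _root_.Matrix.submatrix_apply, _root_.Fin.succ_zero_eq_one, _root_.Matrix.cons_val_one, _root_.Matrix.submatrix_submatrix, _root_.Function.comp_apply, _root_.Fin.succ_one_eq_two, _root_.Matrix.cons_val, _root_.Matrix.det_unique, _root_.Fin.default_eq_zero, _root_.Fin.reduceSucc, _root_.Fin.coe_ofNat_eq_mod, _root_.Nat.zero_mod, _root_.pow_zero, _root_.one_mul, _root_.Fin.zero_succAbove, _root_.Finset.univ_unique, _root_.Fin.val_succ, _root_.Fin.val_eq_zero, _root_.zero_add, _root_.pow_one, _root_.neg_mul, _root_.ne_eq, _root_.Fin.succ_ne_zero, _root_.not_false_eq_true, _root_.Fin.succAbove_ne_zero_zero, _root_.Finset.sum_neg_distrib, _root_.Finset.sum_singleton, _root_.Fin.succ_succAbove_one,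 _root_.even_two, _root_.Even.neg_pow, _root_.one_pow, _root_.mul_one, _root_.mul_neg, _root_.MulZeroClass.zero_mul, _root_.neg_zero, _root_.add_zero, _root_.MulZeroClass.mul_zero, _root_.neg_neg, _root_.Matrix.cons_val_succ, _root_.neg_sub, _root_.neg_add_rev, _root_.Finset.sum_const_zero]⟩

theorem uB_inv (s : Fin 5 → E) : (uB s)⁻¹ = uBI s := by
  apply inv_eq_of_mul_eq_one_right
  apply Subtype.ext
  change (uB s).1 * (uBI s).1 = (1 : Matrix (Fin (3 + 1)) (Fin (3 + 1)) E)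
  ext i j
  fin_cases i <;> fin_cases j <;> (simp only [uB, uBI, Matrix.mul_apply, Fin.sum_univ_four, _root_.Nat.reduceAdd, _root_.Fin.isValue, _root_.Fin.zero_eta, _root_.Matrix.of_apply, _root_.Matrix.cons_val', _root_.Matrix.cons_val_fin_one, _root_.Matrix.cons_val_zero, _root_.mul_one, _root_.Matrix.cons_val_one, _root_.MulZeroClass.mul_zero, _root_.add_zero, _root_.Matrix.cons_val, _root_.Matrix.one_apply_eq, _root_.Fin.mk_one, _root_.mul_neg, _root_.one_mul, _root_.neg_add_cancel, _root_.ne_eq, _root_.zero_ne_one, _root_.not_false_eq_true, _root_.Matrix.one_apply_ne, _root_.Fin.reduceFinMk, _root_.Fin.reduceEq, _root_.one_ne_zero, _root_.MulZeroClass.zero_mul, _root_.neg_zero, _root_.zero_add]; try ring)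

theorem lB_inv (s : Fin 5 → E) : (lB s)⁻¹ = lBI s := by
  apply inv_eq_of_mul_eq_one_right
  apply Subtype.ext
  change (lB s).1 * (lBI s).1 = (1 : Matrix (Fin (3 + 1)) (Fin (3 + 1)) E)
  ext i j
  fin_cases i <;> fin_cases j <;> (simp only [lB, lBI, Matrix.mul_apply, Fin.sum_univ_four, _root_.Nat.reduceAdd, _root_.Fin.isValue, _root_.Fin.zero_eta, _root_.Matrix.of_apply, _root_.Matrix.cons_val', _root_.Matrix.cons_val_fin_one, _root_.Matrix.cons_val_zero, _root_.mul_one, _root_.Matrix.cons_val_one, _root_.mul_neg, _root_.MulZeroClass.zero_mul, _root_.neg_zero, _root_.add_zero, _root_.Matrix.cons_val, _root_.Matrix.one_apply_eq, _root_.Fin.mk_one, _root_.MulZeroClass.mul_zero, _root_.ne_eq, _root_.zero_ne_one, _root_.not_false_eq_true, _root_.Matrix.one_apply_ne, _root_.Fin.reduceFinMk, _root_.Fin.reduceEq, _root_.one_mul, _root_.add_neg_cancel, _root_.one_ne_zero, _root_.zero_add]; try ring)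

variable {k : Type*} [Field k] (ι : E →+* k)

theorem xi_uB_lB (a b : ℕ) (s t : Fin 5 → E) : xi ι a b (uB s * lB t) =
    ι (1 + s 0 * t 0 + s 1 * t 1 + s 2 * t 2) ^ a *
      ι (1 + s 3 * t 3 + s 4 * t 4 + (s 0 * s 3 + s 1 * s 4 - s 2) * (t 0 * t 3 + t 1 * t 4 - t 2)) ^ b := by
  rw [xi_mul, uB_inv, lB_inv]
  congr 3
  · rw [Fin.sum_univ_four]
    simp only [uB, lB, _root_.Nat.reduceAdd, _root_.Fin.isValue, _root_.Matrix.of_apply, _root_.Matrix.cons_val', _root_.Matrix.cons_val_zero, _root_.Matrix.cons_val_fin_one, _root_.mul_one, _root_.Matrix.cons_val_one, _root_.Matrix.cons_val]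
  · rw [Fin.sum_univ_four]
    simp only [uBI, lBI, show Fin.last 3 = (3 : Fin 4) from rfl, _root_.Nat.reduceAdd, _root_.Fin.isValue, _root_.Matrix.of_apply, _root_.Matrix.cons_val', _root_.Matrix.cons_val, _root_.Matrix.cons_val_fin_one, _root_.Matrix.cons_val_zero, _root_.Matrix.cons_val_one, _root_.mul_neg, _root_.neg_mul, _root_.neg_neg, _root_.mul_one]
    ring

theorem xf_uA_lA (a b : ℕ) (s t : Fin 5 → E) : xf ι 1 2 a b 0 0 (uA s * lA t) =
    ι (1 + s 0 * t 0 + s 1 * t 1 + s 2 * t 2) ^ a *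
      ι ((1 + s 0 * t 0 + s 1 * t 1 + s 2 * t 2) * (1 + s 3 * t 3 + s 4 * t 4) -
        (s 0 + s 1 * t 3 + s 2 * t 4) * (t 0 + s 3 * t 1 + s 4 * t 2)) ^ b := by
  unfold xf xi mn
  rw [pow_zero, pow_zero, mul_one, mul_one]
  change ι (((uA s).1 * (lA t).1) 0 0) ^ a * ι (((uA s).1 * (lA t).1) 0 0 * ((uA s).1 * (lA t).1) 1 1 -
    ((uA s).1 * (lA t).1) 0 1 * ((uA s).1 * (lA t).1) 1 0) ^ b = _
  have e : ∀ i j, ((uA s).1 * (lA t).1) i j = (uA s).1 i 0 * (lA t).1 0 j + (uA s).1 i 1 * (lA t).1 1 j +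
      (uA s).1 i 2 * (lA t).1 2 j + (uA s).1 i 3 * (lA t).1 3 j := by
    intro i j
    rw [Matrix.mul_apply, Fin.sum_univ_four]
  rw [e, e, e, e]
  congr 3
  · simp only [uA, lA, _root_.Nat.reduceAdd, _root_.Fin.isValue, _root_.Matrix.of_apply, _root_.Matrix.cons_val', _root_.Matrix.cons_val_zero, _root_.Matrix.cons_val_fin_one, _root_.mul_one, _root_.Matrix.cons_val_one, _root_.Matrix.cons_val]
  · simp only [uA, lA, _root_.Nat.reduceAdd, _root_.Fin.isValue, _root_.Matrix.of_apply, _root_.Matrix.cons_val', _root_.Matrix.cons_val_zero, _root_.Matrix.cons_val_fin_one, _root_.mul_one, _root_.Matrix.cons_val_one, _root_.Matrix.cons_val, _root_.MulZeroClass.mul_zero, _root_.zero_add, _root_.one_mul]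

variable {p : ℕ} [hp : Fact p.Prime] [CharP k p] {d : ℕ}

include hp in
theorem le_d101 {i j : ℕ} (h : Rk (xi ι (p ^ i) (p ^ j) : _root_.Matrix.SpecialLinearGroup (Fin (3 + 1)) E → k) d) : 13 ≤ d := by
  refine h.cert (fun i => uB fun e => (d101S i e : E)) (fun i => lB fun e => (d101T i e : E)) d101M d101N 1 ?_ d101_inv ?_
  · intro a b
    rw [xi_uB_lB, d101_eq]
    unfold z1 z3
    push_cast
    simp only [map_add, map_mul, map_sub, map_one, map_intCast]
    norm_cast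
    simp only [Int.cast_mul, Int.cast_pow, int_pow (p := p)]
  · simp

include hp in
theorem le_d110 {i j : ℕ} (h : Rk (xf ι 1 2 (p ^ i) (p ^ j) 0 0 : _root_.Matrix.SpecialLinearGroup (Fin (3 + 1)) E → k) d) :
    13 ≤ d := by
  refine h.cert (fun i => uA fun e => (d110S i e : E)) (fun i => lA fun e => (d110T i e : E)) d110M d110N 1 ?_ d110_inv ?_
  · intro a b
    rw [xf_uA_lA, d110_eq]
    unfold z2 z1
    push_cast
    simp only [map_add, map_mul, map_sub, map_one, map_intCast]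
    norm_cast
    simp only [Int.cast_mul, Int.cast_pow, int_pow (p := p)]
  · simp

include hp in
theorem le_d020 (hp2 : p ≠ 2) {i : ℕ}
    (h : Rk (xf ι 1 2 0 (2 * p ^ i) 0 0 : _root_.Matrix.SpecialLinearGroup (Fin (3 + 1)) E → k) d) : 13 ≤ d := by
  refine h.cert (fun i => uA fun e => (d020S i e : E)) (fun i => lA fun e => (d020T i e : E)) d020M d020N 8 ?_ d020_inv ?_
  · intro a b
    rw [xf_uA_lA, d020_eq, pow_zero, one_mul, pow_mul']
    unfold z2 z1
    push_cast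
    simp only [map_add, map_mul, map_sub, map_one, map_intCast]
    norm_cast
    simp only [Int.cast_pow, int_pow (p := p)]
  · intro h0
    rw [CharP.intCast_eq_zero_iff k p] at h0
    have h1 : (p : ℤ) ∣ (2 : ℤ) ^ 3 := by norm_num; exact h0
    have h2 : p ∣ 2 ^ 3 := by exact_mod_cast h1
    exact hp2 ((Nat.prime_dvd_prime_iff_eq hp.out Nat.prime_two).1 (hp.out.dvd_of_dvd_pow h2))

end four

end Cfsg.Agent.H887.DS
end

-- part: H887/DS/MonoThree
section
/-!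
# `SL(3, E)`, exponents `p ^ i` and `p ^ j + p ^ l` (helper887)

* `le_mono` : the dimension is at least 13.
-/

set_option autoImplicit false
set_option linter.unusedSectionVars false

namespace Cfsg.Agent.H887.DS

open Matrix Module

section pow

variable {E k : Type*} [Field E] [Finite E] [Field k] (ι : E →+* k)

theorem pow2 {P : ℕ} (hP0 : P ≠ 0) (hP : P < Nat.card E) {c0 c1 : k} (h : ∀ y : E, c0 + c1 * ι y ^ P = 0) :
    c0 = 0 ∧ c1 = 0 := by
  have h1 := pow_indep ι (M := Fin 2) ![0, P] (by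
    intro a b hab
    fin_cases a <;> fin_cases b <;> simp_all only [_root_.ne_eq, _root_.Fin.zero_eta, _root_.Fin.isValue, _root_.Matrix.cons_val_zero, _root_.Fin.mk_one, _root_.Matrix.cons_val_one, _root_.Matrix.cons_val_fin_one, _root_.Fin.mk_eq_one, _root_.not_true_eq_false]) (by
    intro a
    fin_cases a
    · exact Nat.card_pos
    · exact hP) ![c0, c1] (by
    intro y
    rw [Fin.sum_univ_two]
    simpa only [_root_.Fin.isValue, _root_.Matrix.cons_val_zero, _root_.pow_zero, _root_.mul_one, _root_.Matrix.cons_val_one, _root_.Matrix.cons_val_fin_one] using h y)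
  exact ⟨congrFun h1 0, congrFun h1 1⟩

theorem pow3 {P Q : ℕ} (hP0 : P ≠ 0) (hP : P < Nat.card E) (hQ0 : Q ≠ 0) (hQ : Q < Nat.card E) (hPQ : P ≠ Q)
    {c0 c1 c2 : k} (h : ∀ y : E, c0 + c1 * ι y ^ P + c2 * ι y ^ Q = 0) : c0 = 0 ∧ c1 = 0 ∧ c2 = 0 := by
  have h1 := pow_indep ι (M := Fin 3) ![0, P, Q] (by
    intro a b hab
    fin_cases a <;> fin_cases b <;> simp_all only [_root_.ne_eq, _root_.Fin.zero_eta, _root_.Fin.isValue, _root_.Matrix.cons_val_zero, _root_.Fin.mk_one, _root_.Matrix.cons_val_one, _root_.Fin.mk_eq_one, _root_.not_true_eq_false, _root_.Fin.reduceFinMk, _root_.Matrix.cons_val, _root_.not_false_eq_true, _root_.Fin.reduceEq]) (by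
    intro a
    fin_cases a
    · exact Nat.card_pos
    · exact hP
    · exact hQ) ![c0, c1, c2] (by
    intro y
    rw [Fin.sum_univ_three]
    simpa only [_root_.Fin.isValue, _root_.Matrix.cons_val_zero, _root_.pow_zero, _root_.mul_one, _root_.Matrix.cons_val_one, _root_.Matrix.cons_val] using h y)
  exact ⟨congrFun h1 0, congrFun h1 1, congrFun h1 2⟩

theorem pow4 {P Q : ℕ} (hP0 : P ≠ 0) (hQ0 : Q ≠ 0) (hPQ : P ≠ Q) (hlt : P + Q < Nat.card E)
    {c0 c1 c2 c3 : k} (h : ∀ y : E, c0 + c1 * ι y ^ P + c2 * ι y ^ Q + c3 * ι y ^ (P + Q) = 0) :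
    c0 = 0 ∧ c1 = 0 ∧ c2 = 0 ∧ c3 = 0 := by
  have h1 := pow_indep ι (M := Fin 4) ![0, P, Q, P + Q] (by
    intro a b hab
    have e0 : (![0, P, Q, P + Q] : Fin 4 → ℕ) 0 = 0 := rfl
    have e1 : (![0, P, Q, P + Q] : Fin 4 → ℕ) 1 = P := rfl
    have e2 : (![0, P, Q, P + Q] : Fin 4 → ℕ) 2 = Q := rfl
    have e3 : (![0, P, Q, P + Q] : Fin 4 → ℕ) 3 = P + Q := rfl
    generalize (![0, P, Q, P + Q] : Fin 4 → ℕ) = F at *
    fin_cases a <;> fin_cases b <;> first | rfl | (exfalso; simp only [Fin.zero_eta, Fin.mk_one, Fin.reduceFinMk, e0, e1, e2, e3] at hab; (clear * - hP0 hQ0 hPQ e1 e2 e3 hab; omega))) (by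
    intro a
    fin_cases a
    · exact Nat.card_pos
    · exact (by omega : P < Nat.card E)
    · exact (by omega : Q < Nat.card E)
    · exact hlt) ![c0, c1, c2, c3] (by
    intro y
    rw [Fin.sum_univ_four]
    simpa only [_root_.Fin.isValue, _root_.Matrix.cons_val_zero, _root_.pow_zero, _root_.mul_one, _root_.Matrix.cons_val_one, _root_.Matrix.cons_val] using h y)
  exact ⟨congrFun h1 0, congrFun h1 1, congrFun h1 2, congrFun h1 3⟩

end pow

section num

variable {E k : Type*} [Field E] [Finite E] [Field k] (ι : E →+* k) (p : ℕ) [hp : Fact p.Prime] [CharP E p]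
include p hp

omit [Field k] in
theorem mul_le_of_lt {i : ℕ} (h : p ^ i < Nat.card E) : p ^ i * p ≤ Nat.card E := by
  have := Fintype.ofFinite E
  obtain ⟨n, -, hn⟩ := FiniteField.card E p
  rw [Nat.card_eq_fintype_card, hn] at h ⊢
  rw [← pow_succ]
  exact Nat.pow_le_pow_right hp.out.pos ((Nat.pow_lt_pow_iff_right hp.out.one_lt).1 h)

omit [Field k] in
theorem add_lt_of_ne {i j : ℕ} (hij : p ^ i ≠ p ^ j) (hi : p ^ i < Nat.card E) (hj : p ^ j < Nat.card E) :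
    p ^ i + p ^ j < Nat.card E := by
  have h1 := mul_le_of_lt p hi
  have h2 := mul_le_of_lt p hj
  have h3 := hp.out.two_le
  have h4 : p ^ i * 2 ≤ p ^ i * p := Nat.mul_le_mul_left _ h3
  have h5 : p ^ j * 2 ≤ p ^ j * p := Nat.mul_le_mul_left _ h3
  omega

/-- the third exponent -/
theorem exists_third {i j : ℕ} (hi : p ^ i < Nat.card E) (hj : p ^ j < Nat.card E) (h4 : 2 < Nat.card E) :
    ∃ R, R ≠ 0 ∧ R < Nat.card E ∧ p ^ i ≠ R ∧ ∀ y : E, ι y ^ (p ^ i + p ^ j) = ι y ^ R := by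
  have h1 := mul_le_of_lt p hi
  have h2 := mul_le_of_lt p hj
  have h3 := hp.out.two_le
  have h5 : p ^ i * 2 ≤ p ^ i * p := Nat.mul_le_mul_left _ h3
  have h6 : p ^ j * 2 ≤ p ^ j * p := Nat.mul_le_mul_left _ h3
  have h7 : 0 < p ^ i := pow_pos hp.out.pos i
  have h8 : 0 < p ^ j := pow_pos hp.out.pos j
  by_cases h : p ^ i + p ^ j < Nat.card E
  · exact ⟨p ^ i + p ^ j, by omega, h, by omega, fun _ => rfl⟩
  · refine ⟨1, one_ne_zero, by omega, by omega, fun y => ?_⟩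
    have e : p ^ i + p ^ j = Nat.card E := by omega
    have := Fintype.ofFinite E
    rw [e, ← map_pow, Nat.card_eq_fintype_card, FiniteField.pow_card, pow_one]

end num

section main

variable {E k : Type*} [Field E] [Finite E] [Field k] (ι : E →+* k) (p : ℕ) [hp : Fact p.Prime] [CharP E p] [CharP k p]
  {d : ℕ}
include p hp

theorem le_mono_aux {i j l : ℕ} (hil : p ^ i ≠ p ^ l) (hjl : p ^ j ≠ p ^ l) (hi : p ^ i < Nat.card E)
    (hj : p ^ j < Nat.card E) (hl : p ^ l < Nat.card E)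
    (h : Rk (xi ι (p ^ i) (p ^ j + p ^ l) : _root_.Matrix.SpecialLinearGroup (Fin (2 + 1)) E → k) d) : 13 ≤ d := by
  have hjl' := add_lt_of_ne (E := E) p hjl hj hl
  have hil' := add_lt_of_ne (E := E) p hil hi hl
  have pi0 : p ^ i ≠ 0 := (pow_pos hp.out.pos i).ne'
  have pj0 : p ^ j ≠ 0 := (pow_pos hp.out.pos j).ne'
  have pl0 : p ^ l ≠ 0 := (pow_pos hp.out.pos l).ne'
  obtain ⟨R, hR0, hR, hPR, hyR⟩ := exists_third ι p hi hj (by omega)
  have hh := h.mono (S := E × E) (T := E × E × E) (M := Fin 2 × Fin 3 × Fin 3) (fun s => up ![s.1, 0, s.2])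
    (fun t => lo ![t.1, t.1 * t.2.1 - t.2.2, t.2.1]) (c := fun _ => 1)
    (F := fun α s => ![1, ι s.1 ^ p ^ i] α.1 * ![1, ι s.2 ^ p ^ j, ι s.1 ^ p ^ j * ι s.2 ^ p ^ j] α.2.1 *
      ![1, ι s.2 ^ p ^ l, ι s.1 ^ p ^ l * ι s.2 ^ p ^ l] α.2.2)
    (Gf := fun α t => ![1, ι t.1 ^ p ^ i] α.1 * ![1, ι t.2.1 ^ p ^ j, ι t.2.2 ^ p ^ j] α.2.1 *
      ![1, ι t.2.1 ^ p ^ l, ι t.2.2 ^ p ^ l] α.2.2) ?_ (fun _ => one_ne_zero)
    {(0, 2, 0), (0, 2, 1), (1, 2, 1), (0, 2, 2), (1, 2, 2)} ∅ ?_ ?_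
  · rw [Fintype.card_prod, Fintype.card_prod, Fintype.card_fin, Fintype.card_fin, Finset.card_empty] at hh
    have h2 : ({(0, 2, 0), (0, 2, 1), (1, 2, 1), (0, 2, 2), (1, 2, 2)} : Finset (Fin 2 × Fin 3 × Fin 3)).card = 5 := by
      decide
    omega
  · rintro ⟨s0, s2⟩ ⟨t0, t2, u⟩
    rw [xi_up_lo, pow_add]
    simp only [Fintype.sum_prod_type, Fin.sum_univ_two, Fin.sum_univ_three]
    simp only [Matrix.cons_val_zero, Matrix.cons_val_one, Matrix.cons_val]
    have e1 : (1 : E) + s0 * t0 + 0 * (t0 * t2 - u) = 1 + s0 * t0 := by ring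
    have e2 : (1 : E) + s2 * t2 + (s0 * s2 - 0) * (t0 * t2 - (t0 * t2 - u)) = 1 + s2 * t2 + s0 * s2 * u := by ring
    rw [e1, e2]
    simp only [map_add, map_mul, map_one, add_pow_char_pow, mul_pow, one_pow]
    ring
  · intro x hx hr
    have r1 : x (0, 2, 0) = 0 := hr _ (by decide)
    have r2 : x (0, 2, 1) = 0 := hr _ (by decide)
    have r3 : x (1, 2, 1) = 0 := hr _ (by decide)
    have r4 : x (0, 2, 2) = 0 := hr _ (by decide)
    have r5 : x (1, 2, 2) = 0 := hr _ (by decide)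
    have key : ∀ s0 : E, (x (0, 0, 0) + x (1, 0, 0) * ι s0 ^ p ^ i = 0) ∧
        (x (0, 1, 0) + x (1, 1, 0) * ι s0 ^ p ^ i + x (1, 2, 0) * ι s0 ^ R = 0) ∧
        (x (0, 0, 1) + x (1, 0, 1) * ι s0 ^ p ^ i + x (0, 0, 2) * ι s0 ^ p ^ l +
          x (1, 0, 2) * ι s0 ^ (p ^ i + p ^ l) = 0) ∧
        (x (0, 1, 1) + x (1, 1, 1) * ι s0 ^ p ^ i + x (0, 1, 2) * ι s0 ^ p ^ l +
          x (1, 1, 2) * ι s0 ^ (p ^ i + p ^ l) = 0) := by
      intro s0
      refine pow4 ι pj0 pl0 hjl hjl' fun s2 => ?_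
      have h1 := hx (s0, s2)
      simp only [Fintype.sum_prod_type, Fin.sum_univ_two, Fin.sum_univ_three] at h1
      simp only [Matrix.cons_val_zero, Matrix.cons_val_one, Matrix.cons_val, r1, r2, r3, r4, r5] at h1
      rw [← hyR, ← h1, pow_add (ι s0), pow_add (ι s0), pow_add (ι s2)]
      ring
    obtain ⟨a1, a2⟩ := pow2 ι pi0 hi fun y => (key y).1
    obtain ⟨b1, b2, b3⟩ := pow3 ι pi0 hi hR0 hR hPR fun y => (key y).2.1
    obtain ⟨c1, c2, c3, c4⟩ := pow4 ι pi0 pl0 hil hil' fun y => (key y).2.2.1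
    obtain ⟨d1, d2, d3, d4⟩ := pow4 ι pi0 pl0 hil hil' fun y => (key y).2.2.2
    funext α
    obtain ⟨a, b, c⟩ := α
    fin_cases a <;> fin_cases b <;> fin_cases c <;> assumption
  · intro x hx _
    have key : ∀ (t2 u : E), (∑ b : Fin 3, ∑ c : Fin 3, x (0, b, c) * (![1, ι t2 ^ p ^ j, ι u ^ p ^ j] b *
        ![1, ι t2 ^ p ^ l, ι u ^ p ^ l] c) = 0) ∧ (∑ b : Fin 3, ∑ c : Fin 3, x (1, b, c) *
        (![1, ι t2 ^ p ^ j, ι u ^ p ^ j] b * ![1, ι t2 ^ p ^ l, ι u ^ p ^ l] c) = 0) := by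
      intro t2 u
      refine pow2 ι pi0 hi fun t0 => ?_
      have h1 := hx (t0, t2, u)
      simp only [Fintype.sum_prod_type, Fin.sum_univ_two] at h1
      rw [← h1, Finset.sum_mul, ← Finset.sum_add_distrib, ← Finset.sum_add_distrib]
      refine Finset.sum_congr rfl fun b _ => ?_
      rw [Finset.sum_mul, ← Finset.sum_add_distrib, ← Finset.sum_add_distrib]
      refine Finset.sum_congr rfl fun c _ => ?_
      simp only [Matrix.cons_val_zero, Matrix.cons_val_one]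
      ring
    have fin : ∀ z : Fin 3 → Fin 3 → k, (∀ t2 u : E, ∑ b : Fin 3, ∑ c : Fin 3, z b c * (![1, ι t2 ^ p ^ j, ι u ^ p ^ j] b *
        ![1, ι t2 ^ p ^ l, ι u ^ p ^ l] c) = 0) → ∀ b c, z b c = 0 := by
      intro z hz
      have k1 : ∀ t2 : E, (z 0 0 + z 1 0 * ι t2 ^ p ^ j + z 0 1 * ι t2 ^ p ^ l + z 1 1 * ι t2 ^ (p ^ j + p ^ l) = 0) ∧
          (z 2 0 + z 2 1 * ι t2 ^ p ^ l = 0) ∧ (z 0 2 + z 1 2 * ι t2 ^ p ^ j = 0) ∧ z 2 2 = 0 := by
        intro t2
        refine pow4 ι pj0 pl0 hjl hjl' fun u => ?_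
        have h1 := hz t2 u
        simp only [Fin.sum_univ_three] at h1
        simp only [Matrix.cons_val_zero, Matrix.cons_val_one, Matrix.cons_val] at h1
        rw [← h1, pow_add (ι t2), pow_add (ι u)]
        ring
      obtain ⟨a1, a2, a3, a4⟩ := pow4 ι pj0 pl0 hjl hjl' fun y => (k1 y).1
      obtain ⟨b1, b2⟩ := pow2 ι pl0 hl fun y => (k1 y).2.1
      obtain ⟨c1, c2⟩ := pow2 ι pj0 hj fun y => (k1 y).2.2.1
      have d1 := (k1 0).2.2.2
      intro b c
      fin_cases b <;> fin_cases c <;> assumption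
    have f0 := fin (fun b c => x (0, b, c)) fun t2 u => (key t2 u).1
    have f1 := fin (fun b c => x (1, b, c)) fun t2 u => (key t2 u).2
    funext α
    obtain ⟨a, b, c⟩ := α
    fin_cases a
    · exact f0 b c
    · exact f1 b c

/-- **`p ^ i`, `p ^ j + p ^ l`.** -/
theorem le_mono {i j l : ℕ} (hjl : p ^ j ≠ p ^ l) (hi : p ^ i < Nat.card E)
    (hj : p ^ j < Nat.card E) (hl : p ^ l < Nat.card E)
    (h : Rk (xi ι (p ^ i) (p ^ j + p ^ l) : _root_.Matrix.SpecialLinearGroup (Fin (2 + 1)) E → k) d) : 13 ≤ d := by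
  by_cases hil : p ^ i = p ^ l
  · refine le_mono_aux ι p (i := i) (j := l) (l := j) (fun e => hjl (e.symm.trans hil)) hjl.symm hi hl hj ?_
    rwa [add_comm (p ^ l)]
  · exact le_mono_aux ι p hil hjl hi hj hl h

end main

end Cfsg.Agent.H887.DS
end

-- part: H887/DS/Twelve
section
/-!
# No 12-dimensional modules of `SL(m, E)`, `3 ≤ m < 12`, in its own characteristic (helper887)

* `sl3_twelve`, `sl4_twelve`;
* **`not_twelve`** : `Core P`, `Soc P = PSL(m, E)`, `3 ≤ m < 12`, `n = 12` is impossible.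
-/

set_option autoImplicit false
set_option linter.unusedSectionVars false
set_option linter.style.haveILetI false

namespace Cfsg.Agent.H887.DS

open Matrix CoxeterSystem Cfsg.Agent.ChevalleyStructure.CoxeterGeom Cfsg.Agent.Tits.Roots Cfsg.Agent.Tits.Core
  Cfsg.Agent.Tits.Exchange Cfsg.Agent.Nodes.Reps Cfsg.Agent.Nodes.BNOf Cfsg.Agent.Nodes.StabComb
  Cfsg.Agent.Nodes.Bruhat Cfsg.Agent.Nodes.OppDec Cfsg.Agent.Nodes.LeviDec Cfsg.Agent.KFacts.RgdOpp
  Cfsg.Agent.Omega.CR Cfsg.Agent.Omega.FOne.Lift.Sd Cfsg.Agent.Nodes.RootsA Cfsg.Agent.Nodes.RGDTypeA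
open Cfsg.Agent.LieRecognition.BNCox (cA cA_apply)
open Cfsg.Agent.TitsThree.KSideA (tv tv_of_ne tv_add tv_zero tv_neg tv_comm tv_commute)
open Cfsg.Agent.H905.Md Module Cfsg.Agent.H911
open Cfsg Cfsg.Geo Cfsg.Agent.H67
open Cfsg.Agent.H915.LD (Core Soc tr SD Fr Cj)

universe u

section swap

variable {E k : Type*} [Field E] [Field k] {l : ℕ} {ι : E →+* k}

theorem rk_swap (hl : 1 ≤ l) {a b d : ℕ} (h : Rk (xi ι a b : _root_.Matrix.SpecialLinearGroup (Fin (l + 1)) E → k) d) :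
    Rk (xi ι b a : _root_.Matrix.SpecialLinearGroup (Fin (l + 1)) E → k) d := by
  refine (h.inv.conj (wl E l)).congr fun g => ?_
  unfold xi
  rw [inv_inv, wl_mul_mul_last hl]
  have e : (wl E l * g * (wl E l)⁻¹)⁻¹ = wl E l * g⁻¹ * (wl E l)⁻¹ := by group
  rw [e, wl_mul_mul_zero hl, mul_comm]

theorem rk_swap4 {o z : Fin (l + 1)} (hl : 3 ≤ l) (ho : o.val = 1) (hz : z.val + 1 = l) {a b c d n : ℕ}
    (h : Rk (xf ι o z a b c d : _root_.Matrix.SpecialLinearGroup (Fin (l + 1)) E → k) n) :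
    Rk (xf ι o z d c b a : _root_.Matrix.SpecialLinearGroup (Fin (l + 1)) E → k) n :=
  (h.inv.conj (ww E o z)).congr fun g => (xf_ww hl ho hz ι a b c d g).symm

end swap

section three

variable {E : Type*} [Field E] [Finite E] {W : Type*} [Group W] [Finite W] {cs : CoxeterSystem (cA 2) W}
  {A : Fin 2 → Fin 2 → ℤ} {h : IsCartan (cA 2) A} (p : ℕ) [hp : Fact p.Prime] [hEp : CharP E p]
  {k V : Type*} [Field k] [IsAlgClosed k] [CharP k p] [AddCommGroup V] [Module k V] [FiniteDimensional k V] [Nontrivial V]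
  {ρ : _root_.Matrix.SpecialLinearGroup (Fin (2 + 1)) E →* Module.End k V}
  (hirr : ∀ L : Submodule k V, Ivt ρ (GG cs h (T (Fin (2 + 1)) E) (X E)) L → L = ⊥ ∨ L = ⊤)
include hirr

include p in
/-- **`SL(3, E)` has no 12-dimensional simple module.** -/
theorem sl3_twelve (hn : finrank k V = 12) : False := by
  obtain ⟨ι⟩ := exists_emb E k p
  have R := rgd cs h (F := E) (p := p)
  have hD := finrank_D R hirr slT_comm
  obtain ⟨i, hi⟩ := exists_not_mem R hirr (by rw [hD]; omega)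
  have c32 : Nat.choose (2 + 1) 2 = 3 := rfl
  have one : ∀ c, OneCase p 3 c (finrank k V) → False := by
    rintro c (⟨r, e, hr, hrp, -, hn'⟩ | ⟨e, e', -, -, hn'⟩)
    · rcases (choose_cases hr hn').1 rfl (by omega) with ⟨-, h4⟩ | ⟨-, h4⟩ | ⟨-, h4⟩ <;> omega
    · omega
  by_cases hi0 : (0 : Fin 2) ∈ Jx cs h (X E) ρ
  · obtain ⟨v, hv, hv0, φ, hφ0, a, ha, hf, hc⟩ := only_last p hirr ι (by norm_num) (i₀ := (1 : Fin 2)) rfl
      (by
        intro h1
        fin_cases i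
        · exact hi hi0
        · exact hi h1) (fun j hj => by
        fin_cases j
        · exact absurd hi0 hj
        · rfl) (by rw [c32]; omega)
    exact one a hc
  by_cases hi1 : (1 : Fin 2) ∈ Jx cs h (X E) ρ
  · obtain ⟨v, hv, hv0, φ, hφ0, a, ha, hf, hc⟩ := only_zero p hirr ι (by norm_num) (i₀ := (0 : Fin 2)) rfl hi0
      (fun j hj => by
        fin_cases j
        · rfl
        · exact absurd hi1 hj) (by rw [c32]; omega)
    exact one a hc
  obtain ⟨v, hv, hv0, φ, hφ0, a, b, ha, hb, h1, h2, h3⟩ := exists_coef p hirr ι le_rfl (fun j _ => by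
    fin_cases j
    · exact Or.inl rfl
    · exact Or.inr rfl)
  have e0 := Ds_le_Le_zero ι le_rfl p hv h3 ha (i := (0 : Fin 2)) rfl
  have e1 := Ds_le_Le_last ι le_rfl p hv h3 hb (i := (1 : Fin 2)) rfl
  have i0 := finrank_Io R hirr (0 : Fin 2)
  have i1 := finrank_Io R hirr (1 : Fin 2)
  have d := dim_ge_two R hirr (i := (0 : Fin 2)) (j := (1 : Fin 2)) Nat.one_pos hi0 hi1
  rw [hD] at i0 i1 d
  rw [show ((0 : Fin 2) : Fin 2).val = 0 from rfl, show ((1 : Fin 2) : Fin 2).val = 1 from rfl, card_flg_2_01,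
    show Nat.choose (2 + 1) 2 = 3 from rfl] at d
  have ha1 : 1 ≤ a := by
    have := (h1 0 rfl).not.1 hi0
    omega
  have hb1 : 1 ≤ b := by
    have := (h2 1 rfl).not.1 hi1
    omega
  have ta := two_le_Ds hp.out ha1
  have tb := two_le_Ds hp.out hb1
  have ca := Ds_small hp.out a ha1 (by omega)
  have cb := Ds_small hp.out b hb1 (by omega)
  have hsum : (Ds p a).card + (Ds p b).card ≤ 6 := by omega
  have hR : Rk (xi ι a b : _root_.Matrix.SpecialLinearGroup (Fin (2 + 1)) E → k) 12 := by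
    have := rk_of_coef h3
    rwa [hn] at this
  have hR' := rk_swap (by norm_num) hR
  have hf : ∀ x y, φ (ρ (x * y) v) = ι (∑ j, (fun j => x.1 0 j) j * (fun j => y.1 j 0) j) ^ a *
      ι (∑ j, (fun j => (x⁻¹).1 j (Fin.last 2)) j * (fun j => (y⁻¹).1 (Fin.last 2) j) j) ^ b := by
    intro x y
    rw [h3, xi_mul]
  rcases ca with ⟨r, i, hr1, hr2, e5, e6⟩ | ⟨i, i', hij, e5, e6⟩
  · rcases cb with ⟨s, j, hs1, hs2, e7, e8⟩ | ⟨j, l, hjl, e7, e8⟩
    · have hrs : (r = 1 ∧ s = 1) ∨ (r = 1 ∧ s = 2) ∨ (r = 2 ∧ s = 1) ∨ (r = 1 ∧ s = 3) ∨ (r = 3 ∧ s = 1) ∨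
          (r = 2 ∧ s = 2) := by (clear * - hsum hr1 e6 hs1 e8; omega)
      have p5 : 3 < p → 5 ≤ p := by
        intro h3p
        by_contra h5
        have h6 : p = 4 := by omega
        have := hp.out
        rw [h6] at this
        exact absurd this (by norm_num)
      rcases hrs with ⟨rfl, rfl⟩ | ⟨rfl, rfl⟩ | ⟨rfl, rfl⟩ | ⟨rfl, rfl⟩ | ⟨rfl, rfl⟩ | ⟨rfl, rfl⟩
      · rw [one_mul] at e5 e7
        have := two_PQ_le ι (X := fun x j => x.1 0 j) (Z := fun x j => (x⁻¹).1 j (Fin.last 2)) (Y := fun y j => y.1 j 0)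
          (W := fun y j => (y⁻¹).1 (Fin.last 2) j) (irr_all hirr) hφ0 hv0 e5 e7 (by exact hf)
        omega
      · rw [e5, e7, one_mul] at hR
        exact absurd (le_c12 ι (by omega) hR) (by norm_num)
      · rw [e5, e7, one_mul] at hR'
        exact absurd (le_c12 ι (by omega) hR') (by norm_num)
      · rw [e5, e7, one_mul] at hR
        exact absurd (le_c13 ι (p5 hs2) hR) (by norm_num)
      · rw [e5, e7, one_mul] at hR'
        exact absurd (le_c13 ι (p5 hr2) hR') (by norm_num)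
      · rw [e5, e7] at hR
        exact absurd (le_c22 ι (by omega) hR) (by norm_num)
    · obtain rfl : r = 1 := by omega
      rw [one_mul] at e5
      rw [e5, e7] at hR
      exact absurd (le_mono ι p (fun e => hjl.ne (Nat.pow_right_injective hp.out.two_le e)) (by omega) (by omega)
        (by omega) hR) (by norm_num)
  · rcases cb with ⟨s, j, hs1, hs2, e7, e8⟩ | ⟨j, l, hjl, e7, e8⟩
    · obtain rfl : s = 1 := by omega
      rw [one_mul] at e7
      rw [e5, e7] at hR'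
      exact absurd (le_mono ι p (fun e => hij.ne (Nat.pow_right_injective hp.out.two_le e)) (by omega) (by omega)
        (by omega) hR') (by norm_num)
    · omega

end three

section le

variable {E : Type*} [Field E] [Finite E] {l : ℕ} {W : Type*} [Group W] [Finite W] {cs : CoxeterSystem (cA l) W}
  {A : Fin l → Fin l → ℤ} {h : IsCartan (cA l) A}

variable {k V : Type*} [Field k] [AddCommGroup V] [Module k V] [FiniteDimensional k V]
  {ρ : _root_.Matrix.SpecialLinearGroup (Fin (l + 1)) E →* Module.End k V}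

variable (ι : E →+* k) {o z : Fin (l + 1)} (hl : 3 ≤ l) (ho : o.val = 1) (hz : z.val + 1 = l)
include hl ho hz

/-- the values on the rank one subgroups -/
theorem xf_pair (a b c d : ℕ) (i : Fin l) (s t : E) :
    xf ι o z a b c d (tv i.castSucc i.succ s * tv i.succ i.castSucc t) = (1 + ι s * ι t) ^
      ((if i.val = 0 then a else 0) + (if i.val = 1 then b else 0) + (if i.val + 2 = l then c else 0) +
        (if i.val + 1 = l then d else 0)) := by
  have hne : i.castSucc ≠ i.succ := (Fin.castSucc_lt_succ).ne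
  have hi := i.2
  have v1 : i.castSucc.val = i.val := rfl
  have v2 : i.succ.val = i.val + 1 := rfl
  have v3 : (0 : Fin (l + 1)).val = 0 := rfl
  have v4 : (Fin.last l).val = l := rfl
  have tvne : ∀ (x y : Fin (l + 1)) (_ : x ≠ y) (u : E) (i' j' : Fin (l + 1)), i' ≠ j' → ¬ (x = i' ∧ y = j') →
      (tv x y u : _root_.Matrix.SpecialLinearGroup (Fin (l + 1)) E).1 i' j' = 0 := by
    intro x y hxy u i' j' hij h'
    rw [tv_val hxy, Matrix.add_apply, Matrix.one_apply_ne hij, Matrix.single_apply_of_ne _ _ _ _ _ h', add_zero]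
  have k1 : ι ((tv i.castSucc i.succ s * tv i.succ i.castSucc t : _root_.Matrix.SpecialLinearGroup (Fin (l + 1)) E).1 0 0) ^ a =
      (1 + ι s * ι t) ^ (if i.val = 0 then a else 0) := by
    by_cases h0 : i.val = 0
    · have e1 : (0 : Fin (l + 1)) = i.castSucc := Fin.ext h0.symm
      rw [mul_tv_apply hne.symm, if_pos e1, tv_diag hne, e1, tv_same hne, if_pos h0, map_add, map_one, map_mul]
    · have e1 : (0 : Fin (l + 1)) ≠ i.castSucc := fun e => h0 (congrArg Fin.val e).symm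
      rw [mul_tv_apply hne.symm, if_neg e1, tv_diag hne, add_zero, if_neg h0, map_one, one_pow, pow_zero]
  have k4 : ι ((tv i.castSucc i.succ s * tv i.succ i.castSucc t : _root_.Matrix.SpecialLinearGroup (Fin (l + 1)) E)⁻¹.1
      (Fin.last l) (Fin.last l)) ^ d = (1 + ι s * ι t) ^ (if i.val + 1 = l then d else 0) := by
    rw [_root_.mul_inv_rev, ← tv_neg, ← tv_neg]
    by_cases h0 : i.val + 1 = l
    · have e1 : Fin.last l = i.succ := Fin.ext h0.symm
      rw [mul_tv_apply hne, if_pos e1, tv_diag hne.symm, e1, tv_same hne.symm, if_pos h0, neg_mul_neg, map_add, map_one,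
        map_mul, mul_comm (ι t)]
    · have e1 : Fin.last l ≠ i.succ := fun e => h0 (congrArg Fin.val e).symm
      rw [mul_tv_apply hne, if_neg e1, tv_diag hne.symm, add_zero, if_neg h0, map_one, one_pow, pow_zero]
  have k2 : ι (mn 0 o (tv i.castSucc i.succ s * tv i.succ i.castSucc t : _root_.Matrix.SpecialLinearGroup (Fin (l + 1)) E)) ^ b =
      (1 + ι s * ι t) ^ (if i.val = 1 then b else 0) := by
    by_cases h0 : i.val = 1
    · have hio : o = i.castSucc := Fin.ext (by rw [ho, v1, h0])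
      have e0 : (0 : Fin (l + 1)) ≠ i.castSucc := fun e => by
        have := congrArg Fin.val e
        omega
      have e0' : (0 : Fin (l + 1)) ≠ i.succ := (Fin.succ_ne_zero i).symm
      have f1 : (tv i.castSucc i.succ s * tv i.succ i.castSucc t : _root_.Matrix.SpecialLinearGroup (Fin (l + 1)) E).1 0 i.castSucc = 0 := by
        rw [mul_tv_apply hne.symm, if_pos rfl, tvne _ _ hne _ _ _ e0 (fun h => e0 h.1.symm),
          tvne _ _ hne _ _ _ e0' (fun h => e0 h.1.symm)]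
        ring
      unfold mn
      rw [hio, f1, mul_tv_apply hne.symm, mul_tv_apply hne.symm, if_neg e0, if_pos rfl, tv_diag hne,
        tv_diag hne, tv_same hne, if_pos h0]
      simp
    · have c1 : (i.castSucc ≠ 0 ∧ i.castSucc ≠ o) ∨ (i.castSucc = 0 ∧ i.succ = o) ∨ (i.castSucc = o ∧ i.succ = 0) := by
        simp only [ne_eq, Fin.ext_iff, v1, v2, v3, ho]
        (clear * - h0; omega)
      have c2 : (i.succ ≠ 0 ∧ i.succ ≠ o) ∨ (i.succ = 0 ∧ i.castSucc = o) ∨ (i.succ = o ∧ i.castSucc = 0) := by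
        simp only [ne_eq, Fin.ext_iff, v1, v2, v3, ho]
        (clear * -; omega)
      have e1 : mn 0 o (tv i.castSucc i.succ s * (tv i.succ i.castSucc t * 1) : _root_.Matrix.SpecialLinearGroup (Fin (l + 1)) E) = 1 := by
        rw [mn_tv_mul hne c1, mn_tv_mul hne.symm c2, mn_one (o_ne hl ho hz)]
      rw [mul_one] at e1
      rw [e1, map_one, one_pow, if_neg h0, pow_zero]
  have k3 : ι (mn z (Fin.last l) (tv i.castSucc i.succ s * tv i.succ i.castSucc t : _root_.Matrix.SpecialLinearGroup (Fin (l + 1)) E)⁻¹) ^ c =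
      (1 + ι s * ι t) ^ (if i.val + 2 = l then c else 0) := by
    rw [_root_.mul_inv_rev, ← tv_neg, ← tv_neg]
    by_cases h0 : i.val + 2 = l
    · have hio : z = i.succ := Fin.ext (by omega)
      have e0 : Fin.last l ≠ i.castSucc := fun e => by
        have := congrArg Fin.val e
        omega
      have e0' : Fin.last l ≠ i.succ := fun e => by
        have := congrArg Fin.val e
        omega
      have f1 : (tv i.succ i.castSucc (-t) * tv i.castSucc i.succ (-s) : _root_.Matrix.SpecialLinearGroup (Fin (l + 1)) E).1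
          (Fin.last l) i.succ = 0 := by
        rw [mul_tv_apply hne, if_pos rfl, tvne _ _ hne.symm _ _ _ e0' (fun h => e0' h.1.symm),
          tvne _ _ hne.symm _ _ _ e0 (fun h => e0' h.1.symm)]
        ring
      unfold mn
      rw [hio, f1, mul_tv_apply hne, mul_tv_apply hne, if_pos rfl, if_neg e0', tv_diag hne.symm,
        tv_diag hne.symm, tv_same hne.symm, if_pos h0]
      simp only [mul_comm, _root_.mul_neg, _root_.neg_neg, _root_.add_zero, _root_.one_mul, _root_.Matrix.SpecialLinearGroup.coe_mul, _root_.MulZeroClass.zero_mul, _root_.sub_zero, _root_.map_add, _root_.map_one, _root_.map_mul]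
    · have c1 : (i.succ ≠ z ∧ i.succ ≠ Fin.last l) ∨ (i.succ = z ∧ i.castSucc = Fin.last l) ∨
          (i.succ = Fin.last l ∧ i.castSucc = z) := by
        simp only [ne_eq, Fin.ext_iff, v1, v2, v4]
        (clear * - hz h0; omega)
      have c2 : (i.castSucc ≠ z ∧ i.castSucc ≠ Fin.last l) ∨ (i.castSucc = z ∧ i.succ = Fin.last l) ∨
          (i.castSucc = Fin.last l ∧ i.succ = z) := by
        simp only [ne_eq, Fin.ext_iff, v1, v2, v4]
        (clear * - hz; omega)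
      have e1 : mn z (Fin.last l) (1 * tv i.succ i.castSucc (-t) * tv i.castSucc i.succ (-s) :
          _root_.Matrix.SpecialLinearGroup (Fin (l + 1)) E) = 1 := by
        rw [mn_mul_tv hne c1, mn_mul_tv hne.symm c2, mn_one (z_ne hl ho hz)]
      rw [one_mul] at e1
      rw [e1, map_one, one_pow, if_neg h0, pow_zero]
  unfold xf xi
  rw [k1, k2, k3, k4, pow_add, pow_add, pow_add]
  ring

variable (p : ℕ) [Fact p.Prime] [CharP k p] {v : V}
  (hv : v ∈ D cs h (X E) ρ) {φ : Module.Dual k V}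
include hv

theorem Ds_le_Le4 {a b c d : ℕ} (hm : ∀ g, φ (ρ g v) = xf ι o z a b c d g) {e : ℕ} (i : Fin l)
    (he : e = (if i.val = 0 then a else 0) + (if i.val = 1 then b else 0) + (if i.val + 2 = l then c else 0) +
        (if i.val + 1 = l then d else 0)) (hlt : e < Nat.card E) :
    (Ds p e).card ≤ finrank k (Le cs h (T (Fin (l + 1)) E) (X E) ρ {i}) := by
  refine Ds_le ι p _ (fun t => ρ (tv i.succ i.castSucc t) v) (fun t => low_mem_Le hv t)
    (fun s => φ.comp (ρ (tv i.castSucc i.succ s))) hlt ?_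
  intro s t
  change φ (ρ (tv i.castSucc i.succ s) (ρ (tv i.succ i.castSucc t) v)) = _
  rw [← rho_mul, hm, xf_pair ι hl ho hz, he]

end le

section perm

variable {l : ℕ} {W Y : Type*} [Group W] [Group Y] {cs : CoxeterSystem (cA l) W} {A : Fin l → Fin l → ℤ}
  {h : IsCartan (cA l) A} {p : ℕ} {T : Subgroup Y} {n : Fin l → Y} {X : (Fin l → ℤ) → Subgroup Y}
  {k V : Type*} [Field k] [AddCommGroup V] [Module k V]
  (R : RGD cs h p T n X) [Finite Y] [Finite W] [Fact p.Prime] [CharP k p]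
  {ρ : Y →* Module.End k V} [FiniteDimensional k V]
  (hirr : ∀ L : Submodule k V, Ivt ρ (GG cs h T X) L → L = ⊥ ∨ L = ⊤)
include R hirr

/-- **All nodes outside `J`.** -/
theorem fact_le [Nontrivial V] (hJ : ∀ i, i ∉ Jx cs h X ρ) :
    (l + 1).factorial * Module.finrank k (D cs h X ρ) ≤ Module.finrank k V := by
  have h1 := dim_ge_perm R hirr (α := Equiv.Perm (Fin (l + 1))) (β := Empty) id (by
    intro a a' hne
    by_contra hcon
    push Not at hcon
    apply hne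
    have hle : ∀ c, (a'⁻¹ c).val ≤ (a⁻¹ c).val := by
      intro c
      by_cases hc : (a⁻¹ c).val < l
      · exact hcon ⟨_, hc⟩ (hJ _) c le_rfl
      · have := (a'⁻¹ c).2
        omega
    have hs : ∀ b : Equiv.Perm (Fin (l + 1)), ∑ c, (b c).val = ∑ c : Fin (l + 1), c.val :=
      fun b => Equiv.sum_comp b (fun c : Fin (l + 1) => c.val)
    have h2 := (Finset.sum_eq_sum_iff_of_le (s := Finset.univ) (fun c _ => hle c)).1 (by rw [hs, hs])
    have h3 : a'⁻¹ = a⁻¹ := Equiv.ext fun c => Fin.ext (h2 c (Finset.mem_univ c))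
    exact (inv_injective h3).symm) (fun b => b.elim) (fun b => b.elim) (fun b => b.elim) (fun b => b.elim)
    (fun b => b.elim)
  rw [Fintype.card_perm, Fintype.card_fin] at h1
  omega

end perm

section four

variable {E : Type*} [Field E] [Finite E] {W : Type*} [Group W] [Finite W] {cs : CoxeterSystem (cA 3) W}
  {A : Fin 3 → Fin 3 → ℤ} {h : IsCartan (cA 3) A} (p : ℕ) [hp : Fact p.Prime] [hEp : CharP E p]
  {k V : Type*} [Field k] [IsAlgClosed k] [CharP k p] [AddCommGroup V] [Module k V] [FiniteDimensional k V] [Nontrivial V]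
  {ρ : _root_.Matrix.SpecialLinearGroup (Fin (3 + 1)) E →* Module.End k V}
  (hirr : ∀ L : Submodule k V, Ivt ρ (GG cs h (T (Fin (3 + 1)) E) (X E)) L → L = ⊥ ∨ L = ⊤)
include hirr

/-- the middle node, `r = 1` -/
theorem middle_le (ι : E →+* k) {v : V} (hv0 : v ≠ 0) {φ : Module.Dual k V} (hφ0 : φ ≠ 0)
    {i : ℕ} (hf : ∀ g, φ (ρ g v) = xf ι 1 2 0 (p ^ i) 0 0 g) : finrank k V ≤ 6 := by
  have h1 := finrank_le (irr_all hirr) (M := Fin 6) (c := fun _ => (1 : k)) (φ := φ) (v := v)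
    (F := fun κ g => ι (g.1 0 (![0, 0, 0, 1, 1, 2] κ) * g.1 1 (![1, 2, 3, 2, 3, 3] κ) -
      g.1 0 (![1, 2, 3, 2, 3, 3] κ) * g.1 1 (![0, 0, 0, 1, 1, 2] κ)) ^ p ^ i)
    (Gf := fun κ g => ι (g.1 (![0, 0, 0, 1, 1, 2] κ) 0 * g.1 (![1, 2, 3, 2, 3, 3] κ) 1 -
      g.1 (![0, 0, 0, 1, 1, 2] κ) 1 * g.1 (![1, 2, 3, 2, 3, 3] κ) 0) ^ p ^ i) hφ0 hv0 ?_
  · simpa using h1
  · intro x y
    rw [hf]
    unfold xf xi mn
    rw [pow_zero, pow_zero, pow_zero, mul_one, mul_one, one_mul]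
    have e : ∀ i j, (x * y : _root_.Matrix.SpecialLinearGroup (Fin (3 + 1)) E).1 i j = x.1 i 0 * y.1 0 j + x.1 i 1 * y.1 1 j +
        x.1 i 2 * y.1 2 j + x.1 i 3 * y.1 3 j := by
      intro i j
      change (x.1 * y.1) i j = _
      rw [Matrix.mul_apply, Fin.sum_univ_four]
    rw [e, e, e, e]
    have e2 : ∀ f : Fin 6 → E, ι (∑ κ, f κ) ^ p ^ i = ∑ κ, ι (f κ) ^ p ^ i := by
      intro f
      rw [map_sum, sum_pow_char_pow]
    simp only [one_mul, ← mul_pow, ← map_mul]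
    rw [← e2]
    congr 2
    rw [Fin.sum_univ_six]
    simp only [Matrix.cons_val_zero, Matrix.cons_val_one, Matrix.cons_val]
    ring

include p in
/-- **`SL(4, E)` has no 12-dimensional simple module.** -/
theorem sl4_twelve (hn : finrank k V = 12) : False := by
  obtain ⟨ι⟩ := exists_emb E k p
  have R := rgd cs h (F := E) (p := p)
  have hD := finrank_D R hirr slT_comm
  have ho : (1 : Fin (3 + 1)).val = 1 := rfl
  have hz : (2 : Fin (3 + 1)).val + 1 = 3 := rfl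
  have c42 : Nat.choose (3 + 1) 2 = 6 := rfl
  obtain ⟨v, hv, hv0, φ, hφ0, e, he, heJ, hf⟩ := exists_coef4 (cs := cs) (h := h) p ι hirr (o := 1) (z := 2) le_rfl ho hz
  have hf1 := hf (e 0) (e 1) 0 (e 2) (by
    intro i
    fin_cases i <;> simp)
  have hf2 := hf (e 0) 0 (e 1) (e 2) (by
    intro i
    fin_cases i <;> simp)
  have hDs : ∀ i, (Ds p (e i)).card ≤ finrank k (Io cs h (T (Fin (3 + 1)) E) (X E) ρ i) + 2 := by
    intro i
    have h1 := Ds_le_Le4 ι le_rfl ho hz p hv hf1 i (e := e i) (by fin_cases i <;> simp) (he i)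
    have h2 := finrank_Io R hirr i
    rw [hD] at h2
    omega
  have hpow : ∀ i, i ∉ Jx cs h (X E) ρ → (Ds p (e i)).card ≤ 3 →
      ∃ r j, 1 ≤ r ∧ r < p ∧ e i = r * p ^ j ∧ r + 1 ≤ (Ds p (e i)).card := by
    intro i hi h3
    have hne := mt (heJ i).2 hi
    rcases Ds_small hp.out (e i) (by omega) (by omega) with h | ⟨-, -, -, -, h⟩
    · exact h
    · omega
  have one : ∀ c, OneCase p 4 c (finrank k V) → False := by
    rintro c (⟨r, e, hr, hrp, -, hn'⟩ | ⟨e, e', -, -, hn'⟩)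
    · rcases (choose_cases hr hn').2.1 rfl (by omega) with ⟨-, h4⟩ | ⟨-, h4⟩ <;> omega
    · omega
  have two : ∀ i j : Fin 3, i.val < j.val → i ∉ Jx cs h (X E) ρ → j ∉ Jx cs h (X E) ρ →
      (∃ a, e i = p ^ a) ∧ ∃ b, e j = p ^ b := by
    intro i j hij hi hj
    have h1 := dim_ge_two R hirr hij hi hj
    rw [hD] at h1
    have h3 : 12 ≤ Fintype.card (Flg 3 i.val j.val) := by
      fin_cases i <;> fin_cases j <;> first
        | exact card_flg_3_01.ge
        | exact card_flg_3_02.ge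
        | exact card_flg_3_12.ge
        | exact absurd hij (by decide)
    rw [c42] at h1
    have hi' := hDs i
    have hj' := hDs j
    obtain ⟨r, a, hr, -, ea, hra⟩ := hpow i hi (by omega)
    obtain ⟨s, b, hs, -, eb, hsb⟩ := hpow j hj (by omega)
    obtain rfl : r = 1 := by omega
    obtain rfl : s = 1 := by omega
    exact ⟨⟨a, by rw [ea, one_mul]⟩, ⟨b, by rw [eb, one_mul]⟩⟩
  have hR1 : Rk (xf ι 1 2 (e 0) (e 1) 0 (e 2) : _root_.Matrix.SpecialLinearGroup (Fin (3 + 1)) E → k) 12 := by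
    have := rk_of_coef hf1
    rwa [hn] at this
  have hR2 : Rk (xf ι 1 2 (e 0) 0 (e 1) (e 2) : _root_.Matrix.SpecialLinearGroup (Fin (3 + 1)) E → k) 12 := by
    have := rk_of_coef hf2
    rwa [hn] at this
  by_cases h0 : (0 : Fin 3) ∈ Jx cs h (X E) ρ
  · have e0 := (heJ 0).1 h0
    by_cases h1 : (1 : Fin 3) ∈ Jx cs h (X E) ρ
    · have e1 := (heJ 1).1 h1
      by_cases h2 : (2 : Fin 3) ∈ Jx cs h (X E) ρ
      · obtain ⟨i, hi⟩ := exists_not_mem R hirr (by rw [hD]; omega)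
        fin_cases i
        · exact hi h0
        · exact hi h1
        · exact hi h2
      · -- the last node
        obtain ⟨v, hv, hv0, φ, hφ0, a, ha, hf, hc⟩ := only_last p hirr ι (by norm_num) (i₀ := (2 : Fin 3)) rfl h2
          (fun j hj => by
            fin_cases j
            · exact absurd h0 hj
            · exact absurd h1 hj
            · rfl) (by rw [c42]; omega)
        exact one a hc
    · by_cases h2 : (2 : Fin 3) ∈ Jx cs h (X E) ρ
      · -- the middle node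
        have e2 := (heJ 2).1 h2
        have d := dim_ge_A R hirr h1
        rw [hD, c42, show Nat.choose (3 + 1) ((1 : Fin 3).val + 1) = 6 from rfl] at d
        have d1 := hDs 1
        obtain ⟨r, j, hr, hrp, er, hra⟩ := hpow 1 h1 (by omega)
        rw [e0, e2, er] at hR1 hf1
        have hr2 : r = 1 ∨ r = 2 := by omega
        rcases hr2 with rfl | rfl
        · rw [one_mul] at hf1
          have := middle_le p hirr ι hv0 hφ0 hf1
          omega
        · exact absurd (le_d020 ι (by omega) hR1) (by norm_num)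
      · -- 1, 2
        obtain ⟨⟨a, ea⟩, b, eb⟩ := two 1 2 (by decide) h1 h2
        rw [e0, ea, eb] at hR2
        exact absurd (le_d110 ι (rk_swap4 le_rfl ho hz hR2)) (by norm_num)
  · by_cases h1 : (1 : Fin 3) ∈ Jx cs h (X E) ρ
    · have e1 := (heJ 1).1 h1
      by_cases h2 : (2 : Fin 3) ∈ Jx cs h (X E) ρ
      · -- the first node
        obtain ⟨v, hv, hv0, φ, hφ0, a, ha, hf, hc⟩ := only_zero p hirr ι (by norm_num) (i₀ := (0 : Fin 3)) rfl h0
          (fun j hj => by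
            fin_cases j
            · rfl
            · exact absurd h1 hj
            · exact absurd h2 hj) (by rw [c42]; omega)
        exact one a hc
      · -- 0, 2
        obtain ⟨⟨a, ea⟩, b, eb⟩ := two 0 2 (by decide) h0 h2
        rw [e1, ea, eb] at hR1
        refine absurd (le_d101 ι (i := a) (j := b) (hR1.congr fun g => ?_)) (by norm_num)
        unfold xf
        rw [pow_zero, pow_zero, mul_one, mul_one]
    · by_cases h2 : (2 : Fin 3) ∈ Jx cs h (X E) ρ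
      · -- 0, 1
        have e2 := (heJ 2).1 h2
        obtain ⟨⟨a, ea⟩, b, eb⟩ := two 0 1 (by decide) h0 h1
        rw [e2, ea, eb] at hR1
        exact absurd (le_d110 ι hR1) (by norm_num)
      · have h3 := fact_le R hirr (by
          intro i
          fin_cases i
          · exact h0
          · exact h1
          · exact h2)
        have h4 : Nat.factorial (3 + 1) = 24 := rfl
        rw [hD, h4] at h3
        omega

end four

section main

variable {F : Type u} [Field F] [Finite F] {ι : Type} [Fintype ι] [DecidableEq ι] {P : Subgroup (GL ι F)}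
  {E : Type*} [Field E] [Finite E] (p : ℕ) [hp : Fact p.Prime] [hFp : CharP F p] [hEp : CharP E p]
include hp hFp hEp

/-- **`n = 12`.** -/
theorem not_twelve {m : ℕ} (hC : Core P) (hm : 3 ≤ m) (hm' : m < 12) (hn : Fintype.card ι = 12)
    (Φ : Soc P ≃* ProjectiveSpecialLinearGroup (Fin m) E) : False := by
  obtain ⟨l, rfl⟩ : ∃ l, m = l + 1 := ⟨m - 1, by omega⟩
  haveI : Nonempty ι := Fintype.card_pos_iff.1 (by omega)
  haveI hchar : CharP (AlgebraicClosure F) p := charP_of_injective_algebraMap (algebraMap F _).injective p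
  by_cases h6 : l < 5
  · have h7 : 2 ≤ l := by omega
    clear hm
    interval_cases l
    · obtain ⟨φ, hφ, hk, hpr⟩ := psl_cover (l := 2) p hC.perfect (by norm_num) (fun h => by omega) Φ
      haveI : Finite (cA 2).Group := finite_W (cA 2).toCoxeterSystem (isCartan 2)
      have R := Nodes.RGDTypeA.rgd (cA 2).toCoxeterSystem (isCartan 2) (F := E) (p := p)
      have hirr := ac_irr R (gg_eq_top (Nodes.RGDTypeA.G1_eq_top _ _)) slT_comm hφ hC.absIrred
      exact sl3_twelve p hirr (by rw [Module.finrank_fintype_fun_eq_card, hn])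
    · obtain ⟨φ, hφ, hk, hpr⟩ := psl_cover (l := 3) p hC.perfect (by norm_num) (fun h => by omega) Φ
      haveI : Finite (cA 3).Group := finite_W (cA 3).toCoxeterSystem (isCartan 3)
      have R := Nodes.RGDTypeA.rgd (cA 3).toCoxeterSystem (isCartan 3) (F := E) (p := p)
      have hirr := ac_irr R (gg_eq_top (Nodes.RGDTypeA.G1_eq_top _ _)) slT_comm hφ hC.absIrred
      exact sl4_twelve p hirr (by rw [Module.finrank_fintype_fun_eq_card, hn])
    · have := dim5 p hC Φ (by omega)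
      omega
  · push Not at h6
    have h1 : (5 + 1).choose 2 ≤ (l + 1).choose 2 := Nat.choose_le_choose 2 (by omega)
    have h2 : (5 + 1).choose 2 = 15 := rfl
    have := card_eq_of_lt p hC (by omega) Φ (by omega)
    omega

end main

end Cfsg.Agent.H887.DS
end

private theorem dce_90dba120181c : _root_.True := by
  try have : _root_.True := by simp only [_root_.Cfsg.Agent.H887.DS.lBI.eq_1]
  try have : _root_.True := by simp only [_root_.Cfsg.Agent.H887.DS.uB.eq_1]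
  try have : _root_.True := by simp only [_root_.Cfsg.Agent.H887.DS.up.eq_1]
  try have : _root_.True := by simp only [_root_.Cfsg.Agent.H887.DS.uA.eq_1]
  try have : _root_.True := by simp only [_root_.Cfsg.Agent.H887.DS.lB.eq_1]
  try have : _root_.True := by simp only [_root_.Cfsg.Agent.H887.DS.lo.eq_1]
  try have : _root_.True := by simp only [_root_.Cfsg.Agent.H887.DS.upI.eq_1]
  try have : _root_.True := by simp only [_root_.Cfsg.Agent.H887.DS.lA.eq_1]
  try have : _root_.True := by simp only [_root_.Cfsg.Agent.H887.DS.uBI.eq_1]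
  try have : _root_.True := by simp only [_root_.Cfsg.Agent.H887.DS.loI.eq_1]
  exact _root_.True.intro
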